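import Cfsg.Agent.Lib.KnownA.MathieuOut.Abstract

/-!
Outer automorphisms of a group generated like the Harada-Norton group: everything is fixed by an
element of order eleven, the centraliser `K` of the involution `x ^ 2`, and the centraliser of
`⟨y, y ^ x⟩`.
-/

set_option autoImplicit false

namespace CfsgLib.Spor.HNOut

open Cfsg

variable {G : Type*} [Group G]

/-- the hypotheses on the generators `x`, `y`, `z`, `t` and on an element `a` of order eleven -/
structure Hyp (x y z t a : G) : Prop where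
  gen : Subgroup.closure ({x, y, z, t} : Set G) = ⊤
  hx4 : x ^ 4 = 1
  hx2 : x ^ 2 ≠ 1
  hyx : x ^ 2 * y = y * x ^ 2
  hzx : x ^ 2 * z = z * x ^ 2
  ht5 : t ^ 5 = 1
  ht1 : t ≠ 1
  htx : x⁻¹ * t * x = t ^ 3
  hty : t * y = y * t
  ha : orderOf a = 11
  sq : ¬ 11 ^ 2 ∣ Nat.card G
  hCa : ∀ g : G, g * a = a * g → g ∈ Subgroup.zpowers a ∨ g * x ^ 2 ∈ Subgroup.zpowers a
  hax : a * x ^ 2 = x ^ 2 * a
  hU : ∀ g : G, g * y = y * g → g * (x⁻¹ * y * x) = x⁻¹ * y * x * g → g ^ 5 = 1 →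
    ∃ i : ℕ, i < 5 ∧ g = t ^ i
  h2 : (z * t ^ 2) ^ 3 ≠ 1
  h1 : (z * x ^ 2 * t) ^ 3 ≠ 1
  hK : ∀ φ : MulAut G, φ (x ^ 2) = x ^ 2 → ∃ k : G, φ x = k * x * k⁻¹ ∧ φ y = k * y * k⁻¹ ∧
    (φ z = k * z * k⁻¹ ∨ φ z = k * (z * x ^ 2) * k⁻¹)
  hθ : ∀ g : G, g * x = x * g → g * y = y * g → g * z * g⁻¹ ≠ z * x ^ 2

variable {x y z t a : G}

theorem Hyp.conj_sq_t (h : Hyp x y z t a) (i : ℕ) : x ^ 2 * t ^ i * (x ^ 2)⁻¹ = t ^ (4 * i) := by
  have h1 : x⁻¹ * x⁻¹ * t * x * x = t ^ 9 := by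
    calc x⁻¹ * x⁻¹ * t * x * x = x⁻¹ * (x⁻¹ * t * x) * x := by group
      _ = x⁻¹ * t ^ 3 * x := by rw [h.htx]
      _ = (x⁻¹ * t * x⁻¹⁻¹) ^ 3 := by rw [conj_pow, inv_inv]
      _ = t ^ 9 := by rw [inv_inv, h.htx, ← pow_mul]
  have h2 : x ^ 2 * t * (x ^ 2)⁻¹ = t ^ 4 := by
    have hx : x⁻¹ * x⁻¹ = x ^ 2 := by
      rw [← mul_inv_rev, inv_eq_iff_mul_eq_one]
      calc x * x * x ^ 2 = x ^ 4 := by group
        _ = 1 := h.hx4
    calc x ^ 2 * t * (x ^ 2)⁻¹ = x⁻¹ * x⁻¹ * t * (x⁻¹ * x⁻¹)⁻¹ := by rw [hx]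
      _ = x⁻¹ * x⁻¹ * t * x * x := by simp only [mul_inv_rev, inv_inv, mul_assoc]
      _ = t ^ 9 := h1
      _ = t ^ 5 * t ^ 4 := by rw [← pow_add]
      _ = t ^ 4 := by rw [h.ht5, one_mul]
  rw [← conj_pow, h2, ← pow_mul]

theorem Hyp.conj_sq_x (_h : Hyp x y z t a) : MulAut.conj (x ^ 2) x = x := by
  rw [MulAut.conj_apply]; group

theorem Hyp.conj_sq_y (h : Hyp x y z t a) : MulAut.conj (x ^ 2) y = y := by
  rw [MulAut.conj_apply, h.hyx, mul_inv_cancel_right]

theorem Hyp.conj_sq_z (h : Hyp x y z t a) : MulAut.conj (x ^ 2) z = z := by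
  rw [MulAut.conj_apply, h.hzx, mul_inv_cancel_right]

theorem Hyp.mod_t (h : Hyp x y z t a) (i : ℕ) : t ^ i = t ^ (i % 5) := by
  conv_lhs => rw [← Nat.div_add_mod i 5, pow_add, pow_mul, h.ht5, one_pow, one_mul]

theorem Hyp.ext (h : Hyp x y z t a) {φ ψ : MulAut G} (hx : φ x = ψ x) (hy : φ y = ψ y)
    (hz : φ z = ψ z) (ht : φ t = ψ t) : φ = ψ := by
  have := MonoidHom.eq_of_eqOn_dense h.gen (f := φ.toMonoidHom) (g := ψ.toMonoidHom) (by
    rintro g (rfl | rfl | rfl | rfl) <;> assumption)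
  exact MulEquiv.toMonoidHom_injective this

theorem mk_conj_mul (g : G) (ψ : MulAut G) :
    (QuotientGroup.mk (MulAut.conj g * ψ) : Out G) = QuotientGroup.mk ψ := by
  rw [QuotientGroup.mk_mul]
  have : (QuotientGroup.mk (MulAut.conj g) : Out G) = 1 :=
    (QuotientGroup.eq_one_iff _).2 ⟨g, rfl⟩
  rw [this, one_mul]

/-- the outer automorphism group has order two -/
theorem Hyp.natCard_out [Finite G] (h : Hyp x y z t a) (hzt : (z * t) ^ 3 = 1)
    (θ : MulAut G) (θx : θ x = x) (θy : θ y = y) (θz : θ z = z * x ^ 2) (θt : θ t = t ^ 3) :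
    Nat.card (Out G) = 2 := by
  have hfive : Fact (11 : ℕ).Prime := ⟨by norm_num⟩
  have all : ∀ o : Out G, o = 1 ∨ o = QuotientGroup.mk θ := by
    intro o
    obtain ⟨φ, rfl⟩ := QuotientGroup.mk_surjective o
    obtain ⟨g, j, hjp, hj0, hgj⟩ := MathieuOut.exists_conj_eq_pow h.sq h.ha
      (x := φ a) ((orderOf_injective φ.toMonoidHom φ.injective a).trans h.ha)
    set ψ : MulAut G := MulAut.conj g * φ with hψ
    have hψa : ψ a = a ^ j := by rw [hψ, MulAut.mul_apply, MulAut.conj_apply, hgj]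
    have hψu : ψ (x ^ 2) = x ^ 2 := by
      have hc : Commute (ψ (x ^ 2)) (a ^ j) := by
        rw [← hψa]; exact (show Commute (x ^ 2) a from h.hax.symm).map ψ
      have hcop : Nat.Coprime j (orderOf a) := by
        rw [h.ha]
        exact ((hfive.out.coprime_iff_not_dvd).2 (fun hd => hj0 (Nat.eq_zero_of_dvd_of_lt hd hjp))).symm
      obtain ⟨m, hm⟩ := exists_pow_eq_self_of_coprime hcop
      have hc2 := hc.pow_right m
      rw [hm] at hc2
      have hsq : ψ (x ^ 2) * ψ (x ^ 2) = 1 := by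
        rw [← map_mul, ← pow_add, h.hx4, map_one]
      have hne : ψ (x ^ 2) ≠ 1 := fun e => h.hx2 ((map_eq_one_iff ψ ψ.injective).1 e)
      have odd : ∀ u : G, u ∈ Subgroup.zpowers a → u * u = 1 → u = 1 := by
        intro u hu huu
        have h11 : u ^ 11 = 1 := by
          obtain ⟨n, rfl⟩ := Subgroup.mem_zpowers_iff.1 hu
          rw [← zpow_natCast, ← zpow_mul, mul_comm, zpow_mul, zpow_natCast, ← h.ha,
            pow_orderOf_eq_one, one_zpow]
        calc u = u * (u * u) ^ 5 := by rw [huu, one_pow, mul_one]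
          _ = u ^ 11 := by rw [← pow_two, ← pow_mul, ← pow_succ']
          _ = 1 := h11
      rcases h.hCa _ hc2.eq with hu | hu
      · exact absurd (odd _ hu hsq) hne
      · have hcu : Commute (ψ (x ^ 2) * x ^ 2) (x ^ 2) := by
          obtain ⟨n, hn⟩ := Subgroup.mem_zpowers_iff.1 hu
          rw [← hn]; exact (show Commute a (x ^ 2) from h.hax).zpow_left n
        have hcu' : Commute (ψ (x ^ 2)) (x ^ 2) := by
          have := hcu.mul_left ((Commute.refl (x ^ 2)).inv_left)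
          rwa [mul_inv_cancel_right] at this
        have h44 : x ^ 2 * x ^ 2 = 1 := by rw [← pow_add, h.hx4]
        have := odd _ hu (by rw [hcu'.symm.mul_mul_mul_comm, hsq, h44, one_mul] )
        calc ψ (x ^ 2) = ψ (x ^ 2) * (x ^ 2 * x ^ 2) := by rw [h44, mul_one]
          _ = x ^ 2 := by rw [← mul_assoc, this, one_mul]
    obtain ⟨k, kx, ky, kz⟩ := h.hK ψ hψu
    set χ : MulAut G := MulAut.conj k⁻¹ * ψ with hχ
    have hcj : ∀ u v : G, ψ u = k * v * k⁻¹ → χ u = v := fun u v e => by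
      rw [hχ, MulAut.mul_apply, MulAut.conj_apply, e]; group
    have χx : χ x = x := hcj _ _ kx
    have χy : χ y = y := hcj _ _ ky
    have hmk : (QuotientGroup.mk φ : Out G) = QuotientGroup.mk χ := by
      rw [hχ, mk_conj_mul, hψ, mk_conj_mul]
    have c1 : χ t * y = y * χ t := by rw [← χy, ← map_mul, ← map_mul, h.hty]
    have c2 : χ t * (x⁻¹ * y * x) = x⁻¹ * y * x * χ t := by
      have : Commute t (x⁻¹ * y * x) := by
        have h3 : Commute (x⁻¹ * t * x) (x⁻¹ * y * x) := by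
          calc x⁻¹ * t * x * (x⁻¹ * y * x) = x⁻¹ * (t * y) * x := by group
            _ = x⁻¹ * y * x * (x⁻¹ * t * x) := by rw [h.hty]; group
        rw [h.htx] at h3
        have h6 := h3.pow_left 2
        rwa [← pow_mul, h.mod_t, pow_one] at h6
      have h7 := this.map χ
      rwa [map_mul, map_mul, map_inv, χx, χy] at h7
    obtain ⟨i, hi, χt⟩ := h.hU (χ t) c1 c2 (by rw [← map_pow, h.ht5, map_one])
    have hi0 : i ≠ 0 := fun e => h.ht1 ((map_eq_one_iff χ χ.injective).1 (by rw [χt, e, pow_zero]))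
    have rel : (χ z * t ^ i) ^ 3 = 1 := by rw [← χt, ← map_mul, ← map_pow, hzt, map_one]
    have flip : ∀ u : G, MulAut.conj (x ^ 2) u = u → ∀ n : ℕ, (u * t ^ n) ^ 3 = 1 →
        (u * t ^ (4 * n % 5)) ^ 3 = 1 := by
      intro u hu n hn
      have := congrArg (MulAut.conj (x ^ 2)) hn
      rw [map_pow, map_one, map_mul, hu, MulAut.conj_apply, h.conj_sq_t, h.mod_t] at this
      exact this
    have hzz : MulAut.conj (x ^ 2) (z * x ^ 2) = z * x ^ 2 := by
      rw [map_mul, h.conj_sq_z, MulAut.conj_apply, mul_inv_cancel_right]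
    rw [hmk]
    rcases kz with kz | kz
    · have χz : χ z = z := hcj _ _ kz
      rw [χz] at rel
      left
      interval_cases i
      · exact absurd rfl hi0
      · rw [show χ = 1 from h.ext χx χy χz (by rw [χt, pow_one]; rfl), QuotientGroup.mk_one]
      · exact absurd rel h.h2
      · exact absurd (flip z h.conj_sq_z 3 rel) h.h2
      · rw [show χ = MulAut.conj (x ^ 2) * 1 from h.ext (χx.trans h.conj_sq_x.symm)
          (χy.trans h.conj_sq_y.symm) (χz.trans h.conj_sq_z.symm) (by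
            rw [χt, MulAut.mul_apply, MulAut.one_apply, MulAut.conj_apply]
            simpa using (h.conj_sq_t 1).symm), mk_conj_mul, QuotientGroup.mk_one]
    · have χz : χ z = z * x ^ 2 := hcj _ _ kz
      rw [χz] at rel
      right
      interval_cases i
      · exact absurd rfl hi0
      · exact absurd (by simpa using rel) h.h1
      · rw [show χ = MulAut.conj (x ^ 2) * θ from h.ext
          (by rw [χx, MulAut.mul_apply, θx, h.conj_sq_x])
          (by rw [χy, MulAut.mul_apply, θy, h.conj_sq_y])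
          (by rw [χz, MulAut.mul_apply, θz, hzz])
          (by rw [χt, MulAut.mul_apply, θt, MulAut.conj_apply, h.conj_sq_t, h.mod_t (4 * 3)]),
          mk_conj_mul]
      · rw [show χ = θ from h.ext (χx.trans θx.symm) (χy.trans θy.symm) (χz.trans θz.symm)
          (χt.trans θt.symm)]
      · exact absurd (by simpa using flip _ hzz 4 rel) h.h1
  have hne : (1 : Out G) ≠ QuotientGroup.mk θ := by
    intro e
    obtain ⟨g, hg⟩ := (QuotientGroup.eq_one_iff θ).1 e.symm
    have hg' : ∀ u : G, θ u = g * u * g⁻¹ := fun u => by rw [← hg, MulAut.conj_apply]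
    refine h.hθ g ?_ ?_ ?_
    · exact mul_inv_eq_iff_eq_mul.1 (by rw [← hg', θx])
    · exact mul_inv_eq_iff_eq_mul.1 (by rw [← hg', θy])
    · rw [← hg', θz]
  rw [Nat.card_eq_two_iff' (1 : Out G)]
  exact ⟨_, hne.symm, fun o ho => (all o).resolve_left ho⟩

end CfsgLib.Spor.HNOut
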