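import Cfsg.Agent.Lib.Spor.HNOut.KData

/-!
Certificate for centralisers in the group on `x, y, z`.
-/

set_option autoImplicit false
set_option Elab.async false

namespace CfsgLib.Spor.HNOut.KC

open CfsgLib.PresCert CfsgLib.DCE CfsgLib.Spor.HN

theorem lab_ok : okLab LAB MEM = true := by decide +kernel

theorem coverA : okCover AW CA CASESA TABA = true := by decide +kernel

theorem coverB : okCover (BW ++ BW) CM CASESB TABB = true := by decide +kernel

theorem casesA : CASESA.all (okCase LAB MEM AW G4) = true := by decide +kernel

theorem casesB : CASESB.all (okCase LAB MEM (BW ++ BW) G4) = true := by decide +kernel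

end CfsgLib.Spor.HNOut.KC
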