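import Cfsg.Agent.Lib.Spor.HNOut.KData

/-!
Certificate for centralisers in the group on `x, y, z`.
-/

set_option autoImplicit false
set_option Elab.async false

namespace CfsgLib.Spor.HNOut.KC

open CfsgLib.PresCert CfsgLib.DCE CfsgLib.Spor.HN

theorem g4_ok : (okL G4 && ([0, 3, 7, 8] : List Nat).all (fun b => Nat.beq (pimg G4 b) b) &&
    !Nat.beq (pimg G4 16) 16 && Nat.beq ((GK.ls.take 4).map WLevel.len).prod 88704000 &&
    Nat.beq ((GK.ls.take 4).map WLevel.base).length 4) = true := by decide +kernel

theorem words_ok : (okL AW && okL BW && okL CW && same (rep AW 11) [] && !same AW [] &&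
    same (BW ++ AW) (rep AW 6 ++ BW) && commOk CW (BW ++ BW) && same (CW ++ CW) [] &&
    same [0, 0, 0, 0] [] && !same [0, 0] [] && commOk [0, 0] [2] && commOk [0, 0] [4]) = true := by
  decide +kernel

theorem gens_ok : (same (sub2 AW CW WX) [0] && same (sub2 AW CW WY) [2] &&
    same (sub2 AW CW WZ) [4]) = true := by decide +kernel

theorem normal_ok : CA.all (fun c => CA.any fun u =>
    same (u ++ (c ++ BW)) (BW ++ u) || same (u ++ (c ++ BW)) ([0, 0] ++ (BW ++ u))) = true := by
  decide +kernel

theorem filter_ok : CM.all (fun d =>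
    !(TESTS.all fun t => same (rep (sub2 AW d t.1) t.2) []) ||
    (same (sub2 AW d WX) [0] && same (sub2 AW d WY) [2] &&
      (same (sub2 AW d WZ) [4] || same (sub2 AW d WZ) [4, 0, 0]))) = true := by decide +kernel

theorem tests_ok : TESTS.all (fun t => same (rep (sub2 AW CW t.1) t.2) []) = true := by decide +kernel

theorem fixU_ok : allBelow 1408 (fun r => !Nat.beq (pimg [2] r) r || !Nat.beq (pimg [1, 2, 0] r) r ||
    ([0, 1, 2, 4] : List Nat).any (Nat.beq r)) = true := by decide +kernel

theorem stu_ok : (STU.all fun e => (e.2.all fun w => okL w && Nat.beq (pimg w e.1) e.1) &&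
    ((MEM.getD (labOf LAB e.1) []).all fun r =>
      Nat.beq r e.1 || e.2.any fun w => !Nat.beq (pimg w r) r)) = true := by decide +kernel

theorem twist_ok : same (AW.flatMap fun k => bif Nat.beq k 4 then [4, 0, 0] else [k]) AW = true := by
  decide +kernel

theorem noCentre : CA.all (fun c => !(commOk c [0] && commOk c [2] &&
    same (c ++ [4]) ([4, 0, 0] ++ c))) = true := by decide +kernel

end CfsgLib.Spor.HNOut.KC
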