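import Cfsg.Agent.Lib.Spor.HNOut.KSound
import Cfsg.Agent.Lib.Spor.HNOut.KChk0
import Cfsg.Agent.Lib.Spor.HNOut.KChk1
import Cfsg.Agent.Lib.KnownA.MathieuOut.Abstract

/-!
Facts about the group on `x, y, z`: centralisers, automorphisms, and the centraliser of
`⟨y, y ^ x⟩`.
-/

set_option autoImplicit false

namespace CfsgLib.Spor.HNOut.KC

open CfsgLib.PresCert CfsgLib.DCE CfsgLib.Spor.HN

/-- the first generator -/
noncomputable abbrev kx : GrpK := Grp.gen 0
/-- the second generator -/
noncomputable abbrev ky : GrpK := Grp.gen 1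
/-- the third generator -/
noncomputable abbrev kz : GrpK := Grp.gen 2
/-- the element of order eleven -/
noncomputable abbrev ka : GrpK := permsK.val AW

theorem val_zero : permsK.val [0] = kx := by
  simp [Perms.val, wv, lv, kx]; rfl

theorem val_one : permsK.val [1] = kx⁻¹ := by
  rw [← val_zero]; exact permsK.val_ivw [0]

theorem val_two : permsK.val [2] = ky := by
  simp [Perms.val, wv, lv, ky]; rfl

theorem val_three : permsK.val [3] = ky⁻¹ := by
  rw [← val_two]; exact permsK.val_ivw [2]

theorem val_four : permsK.val [4] = kz := by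
  simp [Perms.val, wv, lv, kz]; rfl

theorem val_cons (k : Nat) (w : List Nat) : permsK.val (k :: w) = permsK.val [k] * permsK.val w :=
  permsK.val_append [k] w

theorem val_nil : permsK.val ([] : List Nat) = 1 := by simp [Perms.val, wv]

theorem val_sq : permsK.val [0, 0] = kx ^ 2 := by rw [val_cons, val_zero, pow_two]

theorem val_rep (w : List Nat) : ∀ o, permsK.val (rep w o) = permsK.val w ^ o
  | 0 => by rw [rep, val_nil, pow_zero]
  | o + 1 => by rw [rep, permsK.val_append, val_rep w o, pow_succ']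

theorem okL_rep {w : List Nat} (h : okL w = true) : ∀ o, okL (rep w o) = true
  | 0 => rfl
  | o + 1 => okL_append h (okL_rep h o)

theorem top_gen : Subgroup.closure ({kx, ky, kz} : Set GrpK) = ⊤ := by
  rw [eq_top_iff, ← Grp.closure_gen, Subgroup.closure_le]
  rintro _ ⟨k, rfl⟩
  fin_cases k <;> exact Subgroup.subset_closure (by simp)

theorem words_spec : okL AW = true ∧ okL BW = true ∧ okL CW = true ∧ orderOf ka = 11 ∧
    permsK.val BW * ka * (permsK.val BW)⁻¹ = ka ^ 6 ∧
    permsK.val CW * permsK.val (BW ++ BW) = permsK.val (BW ++ BW) * permsK.val CW ∧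
    kx ^ 4 = 1 ∧ kx ^ 2 ≠ 1 ∧ kx ^ 2 * ky = ky * kx ^ 2 ∧ kx ^ 2 * kz = kz * kx ^ 2 := by
  have h := words_ok
  simp only [Bool.and_eq_true, Bool.not_eq_true'] at h
  obtain ⟨⟨⟨⟨⟨⟨⟨⟨⟨⟨⟨ha, hb⟩, hc⟩, h11⟩, h1⟩, hba⟩, hcb⟩, -⟩, h4⟩, h2⟩, hy⟩, hz⟩ := h
  have e11 : ka ^ 11 = 1 := by
    rw [← val_rep, (same_spec (okL_rep ha _) rfl).1 h11, val_nil]
  have e1 : ka ≠ 1 := fun e => by
    rw [(same_spec ha rfl).2 (e.trans val_nil.symm)] at h1
    exact absurd h1 (by decide)
  have : Fact (11 : ℕ).Prime := ⟨by norm_num⟩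
  refine ⟨ha, hb, hc, orderOf_eq_prime e11 e1, ?_, (commOk_spec hc (okL_append hb hb)).1 hcb,
    ?_, ?_, ?_, ?_⟩
  · have := (same_spec (okL_append hb ha) (okL_append (okL_rep ha 6) hb)).1 hba
    rw [permsK.val_append, permsK.val_append, val_rep] at this
    rw [show permsK.val BW * ka = ka ^ 6 * permsK.val BW from this, mul_inv_cancel_right]
  · have := (same_spec (u := [0, 0, 0, 0]) rfl rfl).1 h4
    rw [show ([0, 0, 0, 0] : List Nat) = rep [0] 4 from rfl, val_rep, val_zero, val_nil] at this
    exact this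
  · intro e
    rw [(same_spec (u := [0, 0]) (v := []) rfl rfl).2 (by rw [val_sq, e, val_nil])] at h2
    exact absurd h2 (by decide)
  · have := (commOk_spec (u := [0, 0]) (v := [2]) rfl rfl).1 hy
    rwa [val_sq, val_two] at this
  · have := (commOk_spec (u := [0, 0]) (v := [4]) rfl rfl).1 hz
    rwa [val_sq, val_four] at this

theorem sq_central (g : GrpK) : kx ^ 2 * g = g * kx ^ 2 := by
  obtain ⟨-, -, -, -, -, -, -, -, hy, hz⟩ := words_spec
  have hg : g ∈ Subgroup.closure ({kx, ky, kz} : Set GrpK) := by rw [top_gen]; trivial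
  have hc : ∀ u ∈ ({kx, ky, kz} : Set GrpK), u ∈ Subgroup.centralizer {kx ^ 2} := by
    rintro u (rfl | rfl | rfl) <;> refine Subgroup.mem_centralizer_singleton_iff.2 ?_
    · rw [← pow_succ, ← pow_succ']
    · exact hy.symm
    · exact hz.symm
  exact (Subgroup.mem_centralizer_singleton_iff.1 ((Subgroup.closure_le _).2 hc hg)).symm

theorem okWLevels_take : ∀ (ls : List WLevel) (bs : List Nat) (n : Nat),
    okWLevels GK.P bs ls = true → okWLevels GK.P bs (ls.take n) = true := by
  intro ls
  induction ls with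
  | nil => intro bs n _; simp [okWLevels]
  | cons L ls ih =>
    intro bs n hh
    cases n with
    | zero => rfl
    | succ n =>
      simp only [List.take_succ_cons, okWLevels, Bool.and_eq_true] at hh ⊢
      exact ⟨hh.1, ih _ _ hh.2⟩

theorem four_fix {h : GrpK} (hh : ∀ i : Fin GK.P.n, (i : Nat) ∈ [0, 3, 7, 8] →
    permsK.act h i = i) : h = 1 ∨ h = permsK.val G4 := by
  have := gk_finite
  have hg := g4_ok
  simp only [Bool.and_eq_true, Bool.not_eq_true', List.all_eq_true, Nat.beq_eq] at hg
  obtain ⟨⟨⟨⟨hl, hfix⟩, h16⟩, hp⟩, -⟩ := hg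
  have hb := permsK.wlevels_bound ⊤ _ [] (okWLevels_take GK.ls [] 4 GK.levels_ok) fun _ _ _ _ => trivial
  rw [hp, List.map_take, bases_k, base_eq] at hb
  set F := permsK.fixIn ⊤ ((([0, 3, 7, 8, 16] : List Nat).take 4).reverse ++ []) with hF
  have hF' : Nat.card F ≤ 2 := by
    have := hb.trans (Subgroup.card_le_card_group _)
    rw [k_faithful.2] at this
    omega
  have inF : ∀ u : GrpK, (∀ i : Fin GK.P.n, (i : Nat) ∈ [0, 3, 7, 8] → permsK.act u i = i) →
      u ∈ F := fun u hu => ⟨trivial, fun i hi => hu i (by simp at hi ⊢; tauto)⟩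
  have hG : permsK.val G4 ∈ F := inF _ fun i hi => Fin.ext (by
    rw [← pimg_act hl, hfix _ hi])
  have hne : permsK.val G4 ≠ 1 := fun e => by
    have h16' : (16 : Nat) < GK.P.n := by rw [n_pts]; omega
    have := pimg_act hl ⟨16, h16'⟩
    rw [e, permsK.act_one] at this
    change pimg G4 16 = 16 at this
    rw [this] at h16
    simp at h16
  by_contra hcon
  push Not at hcon
  have hinj : Function.Injective (![⟨1, one_mem _⟩, ⟨_, hG⟩, ⟨h, inF h hh⟩] : Fin 3 → F) := by
    intro i j e
    have e' := congrArg Subtype.val e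
    fin_cases i <;> fin_cases j <;> first
      | rfl
      | exact absurd e' hne
      | exact absurd e'.symm hne
      | exact absurd e' hcon.1
      | exact absurd e'.symm hcon.1
      | exact absurd e' hcon.2
      | exact absurd e'.symm hcon.2
  have := Nat.card_le_card_of_injective _ hinj
  rw [Nat.card_eq_fintype_card, Fintype.card_fin] at this
  omega

theorem centA (g : GrpK) (h : g * ka = ka * g) : ∃ c ∈ CA, g = permsK.val c := by
  have hg := g4_ok
  simp only [Bool.and_eq_true] at hg
  exact cent_spec lab_ok hg.1.1.1.1 (fun _ => four_fix) coverA casesA g h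

theorem centB (g : GrpK) (h : g * permsK.val (BW ++ BW) = permsK.val (BW ++ BW) * g) :
    ∃ c ∈ CM, g = permsK.val c := by
  have hg := g4_ok
  simp only [Bool.and_eq_true] at hg
  exact cent_spec lab_ok hg.1.1.1.1 (fun _ => four_fix) coverB casesB g h

theorem centA_form (g : GrpK) (h : g * ka = ka * g) :
    g ∈ Subgroup.zpowers ka ∨ g * kx ^ 2 ∈ Subgroup.zpowers ka := by
  have hok : (CA.all fun c => (List.range 11).any fun i =>
      same c (rep AW i) || same (c ++ [0, 0]) (rep AW i)) = true := by decide +kernel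
  obtain ⟨c, hc, rfl⟩ := centA g h
  obtain ⟨ha, -⟩ := words_spec
  have hl := ((cover_lt coverA).2 c hc).1
  obtain ⟨i, -, hi⟩ := List.any_eq_true.1 (List.all_eq_true.1 hok c hc)
  rw [Bool.or_eq_true] at hi
  rcases hi with hi | hi
  · left
    rw [(same_spec hl (okL_rep ha i)).1 hi, val_rep]
    exact pow_mem (Subgroup.mem_zpowers _) i
  · right
    rw [← val_sq, ← permsK.val_append, (same_spec (okL_append hl rfl) (okL_rep ha i)).1 hi, val_rep]
    exact pow_mem (Subgroup.mem_zpowers _) i

/-- value of a word in two elements and the inverse of the first -/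
noncomputable def ev (A C : GrpK) (w : List Nat) : GrpK :=
  (w.map fun k => bif Nat.beq k 0 then A else bif Nat.beq k 1 then A⁻¹ else C).prod

theorem val_sub2 (a c : List Nat) : ∀ w, permsK.val (sub2 a c w) =
    ev (permsK.val a) (permsK.val c) w
  | [] => by simp [sub2, ev, val_nil]
  | k :: w => by
    rw [sub2, permsK.val_append, val_sub2 a c w, ev, ev, List.map_cons, List.prod_cons]
    cases Nat.beq k 0 <;> cases Nat.beq k 1 <;> simp [permsK.val_ivw]

theorem okL_sub2 {a c : List Nat} (ha : okL a = true) (hc : okL c = true) :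
    ∀ w, okL (sub2 a c w) = true
  | [] => rfl
  | k :: w => by
    rw [sub2]
    refine okL_append ?_ (okL_sub2 ha hc w)
    cases Nat.beq k 0 <;> cases Nat.beq k 1 <;> simp [ha, hc, okL_ivw ha]

theorem map_ev (ψ : MulAut GrpK) (A C : GrpK) : ∀ w, ψ (ev A C w) = ev (ψ A) (ψ C) w
  | [] => by simp [ev]
  | k :: w => by
    have := map_ev ψ A C w
    simp only [ev, List.map_cons, List.prod_cons, map_mul] at this ⊢
    rw [this]
    cases Nat.beq k 0 <;> cases Nat.beq k 1 <;> simp

/-- an automorphism fixing the two elements up to the centre fixes the generators likewise -/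
theorem aut_fixed (ψ : MulAut GrpK) (hψa : ψ ka = ka)
    (hψb : ψ (permsK.val (BW ++ BW)) = permsK.val (BW ++ BW)) :
    ψ kx = kx ∧ ψ ky = ky ∧ (ψ kz = kz ∨ ψ kz = kz * kx ^ 2) := by
  obtain ⟨ha, -, hc, -, -, hcb, -, -, -, -⟩ := words_spec
  obtain ⟨d, hd, hψc⟩ := centB (ψ (permsK.val CW)) (by rw [← hψb, ← map_mul, ← map_mul, hcb])
  have hdl := ((cover_lt coverB).2 d hd).1
  have key : ∀ w, ψ (permsK.val (sub2 AW CW w)) = permsK.val (sub2 AW d w) := fun w => by
    rw [val_sub2, val_sub2, map_ev, hψa, hψc]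
  have ht : (TESTS.all fun t => same (rep (sub2 AW d t.1) t.2) []) = true := by
    rw [List.all_eq_true]
    intro t ht
    have := (same_spec (okL_rep (okL_sub2 ha hc _) _) rfl).1 (List.all_eq_true.1 tests_ok t ht)
    rw [val_rep, val_nil] at this
    refine (same_spec (okL_rep (okL_sub2 ha hdl _) _) rfl).2 ?_
    rw [val_rep, val_nil, ← key, ← map_pow, this, map_one]
  have hf := List.all_eq_true.1 filter_ok d hd
  rw [ht] at hf
  simp only [Bool.not_true, Bool.false_or, Bool.and_eq_true, Bool.or_eq_true] at hf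
  obtain ⟨⟨fx, fy⟩, fz⟩ := hf
  have hg := gens_ok
  simp only [Bool.and_eq_true] at hg
  obtain ⟨⟨gx, gy⟩, gz⟩ := hg
  have img : ∀ (w : List Nat) (u v : List Nat), okL u = true → okL v = true →
      same (sub2 AW CW w) u = true → same (sub2 AW d w) v = true →
      ψ (permsK.val u) = permsK.val v := by
    intro w u v hu hv h1 h2
    rw [← (same_spec (okL_sub2 ha hc w) hu).1 h1, key, (same_spec (okL_sub2 ha hdl w) hv).1 h2]
  refine ⟨?_, ?_, ?_⟩
  · have := img WX [0] [0] rfl rfl gx fx
    rwa [val_zero] at this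
  · have := img WY [2] [2] rfl rfl gy fy
    rwa [val_two] at this
  · rcases fz with fz | fz
    · left
      have := img WZ [4] [4] rfl rfl gz fz
      rwa [val_four] at this
    · right
      have := img WZ [4] [4, 0, 0] rfl rfl gz fz
      rwa [val_four, val_cons, val_four, val_sq] at this

/-- automorphisms of the group on `x, y, z` -/
theorem aut_spec (φ : MulAut GrpK) : ∃ k : GrpK, φ kx = k * kx * k⁻¹ ∧ φ ky = k * ky * k⁻¹ ∧
    (φ kz = k * kz * k⁻¹ ∨ φ kz = k * (kz * kx ^ 2) * k⁻¹) := by
  have := gk_finite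
  have : Fact (11 : ℕ).Prime := ⟨by norm_num⟩
  obtain ⟨ha, hb, -, hord, hba, -, hx4, -, -, -⟩ := words_spec
  have hp2 : ¬ 11 ^ 2 ∣ Nat.card GrpK := by rw [k_faithful.2]; norm_num
  obtain ⟨g, j, hj, hj0, hgj⟩ := MathieuOut.exists_conj_eq_pow hp2 hord
    (x := φ ka) ((orderOf_injective φ.toMonoidHom φ.injective ka).trans hord)
  have hij : ∀ j < 11, j ≠ 0 → ∃ i < 10, 6 ^ i * j % 11 = 1 := by decide
  obtain ⟨i, -, hi⟩ := hij j hj hj0
  set b := permsK.val BW with hbdef
  set ψ : MulAut GrpK := MulAut.conj (b ^ i * g) * φ with hψ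
  have hψa : ψ ka = ka := by
    have h2 : ψ ka = b ^ i * (g * φ ka * g⁻¹) * (b ^ i)⁻¹ := by
      simp only [hψ, MulAut.mul_apply, MulAut.conj_apply, mul_inv_rev, mul_assoc]
    rw [h2, hgj, ← conj_pow, MathieuOut.conj_pow_eq hba, ← pow_mul, ← pow_mod_orderOf, hord, hi,
      pow_one]
  set n := ψ b * b⁻¹ with hn
  have h6 : ψ b * ka * (ψ b)⁻¹ = ka ^ 6 := by
    conv_lhs => rw [← hψa, ← map_inv, ← map_mul, ← map_mul, hba, map_pow, hψa]
  have hn6 : Commute n (ka ^ 6) := by
    have : n * ka ^ 6 * n⁻¹ = ka ^ 6 := by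
      calc n * ka ^ 6 * n⁻¹ = n * (b * ka * b⁻¹) * n⁻¹ := by rw [hba]
        _ = ψ b * ka * (ψ b)⁻¹ := by rw [hn]; group
        _ = ka ^ 6 := h6
    exact mul_inv_eq_iff_eq_mul.1 this
  have hna : n * ka = ka * n := by
    have h12 : (ka ^ 6) ^ 2 = ka := by
      rw [← pow_mul, ← pow_mod_orderOf, hord, show 6 * 2 % 11 = 1 from rfl, pow_one]
    have h' := hn6.pow_right 2
    rw [h12] at h'
    exact h'.eq
  obtain ⟨c, hc, hnc⟩ := centA n hna
  obtain ⟨u, hu, hub⟩ := List.any_eq_true.1 (List.all_eq_true.1 normal_ok c hc)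
  obtain ⟨hcl, -⟩ := (cover_lt coverA).2 c hc
  obtain ⟨hul, hua⟩ := (cover_lt coverA).2 u hu
  set v := permsK.val u with hv
  set χ : MulAut GrpK := MulAut.conj v * ψ with hχ
  have hχa : χ ka = ka := by
    rw [hχ, MulAut.mul_apply, hψa, MulAut.conj_apply, hua, mul_inv_cancel_right]
  have hχb : χ b = b ∨ χ b = kx ^ 2 * b := by
    have e : χ b = v * (n * b) * v⁻¹ := by
      rw [hχ, MulAut.mul_apply, MulAut.conj_apply, hn, inv_mul_cancel_right]
    rw [Bool.or_eq_true] at hub
    rcases hub with hub | hub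
    · left
      have := (same_spec (okL_append hul (okL_append hcl hb)) (okL_append hb hul)).1 hub
      rw [permsK.val_append, permsK.val_append, permsK.val_append, ← hnc, ← hv, ← hbdef] at this
      rw [e, this, mul_inv_cancel_right]
    · right
      have := (same_spec (okL_append hul (okL_append hcl hb))
        (okL_append (u := [0, 0]) rfl (okL_append hb hul))).1 hub
      rw [permsK.val_append, permsK.val_append, permsK.val_append, permsK.val_append, ← hnc, ← hv,
        ← hbdef, val_sq] at this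
      rw [e, this, ← mul_assoc, mul_inv_cancel_right]
  have hχbb : χ (permsK.val (BW ++ BW)) = permsK.val (BW ++ BW) := by
    rw [permsK.val_append, ← hbdef, map_mul]
    rcases hχb with e | e
    · rw [e]
    · rw [e, (show Commute b (kx ^ 2) from (sq_central b).symm).mul_mul_mul_comm, ← pow_add, hx4,
        one_mul]
  obtain ⟨cx, cy, cz⟩ := aut_fixed χ hχa hχbb
  refine ⟨(v * (b ^ i * g))⁻¹, ?_, ?_, ?_⟩
  all_goals
    have back : ∀ s r : GrpK, χ s = r →
        φ s = (v * (b ^ i * g))⁻¹ * r * (v * (b ^ i * g))⁻¹⁻¹ := by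
      intro s r e
      rw [← e, hχ, hψ]
      simp only [MulAut.mul_apply, MulAut.conj_apply]
      group
  · exact back _ _ cx
  · exact back _ _ cy
  · exact cz.imp (back _ _) (back _ _)

/-- the twist of the last generator is not inner -/
theorem no_twist (k : GrpK) (hx : k * kx = kx * k) (hy : k * ky = ky * k)
    (hz : k * kz = kz * kx ^ 2 * k) : False := by
  have five : (AW.all fun l => Nat.blt l 5) = true := by decide +kernel
  simp only [List.all_eq_true, Nat.blt_eq] at five
  have tw : ∀ w : List Nat, (∀ l ∈ w, l < 5) → k * permsK.val w =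
      permsK.val (w.flatMap fun l => bif Nat.beq l 4 then [4, 0, 0] else [l]) * k := by
    intro w
    induction w with
    | nil => intro _; simp [val_nil]
    | cons l w ih =>
      intro hl
      obtain ⟨hl5, hw⟩ := List.forall_mem_cons.1 hl
      have e : k * permsK.val [l] =
          permsK.val (bif Nat.beq l 4 then [4, 0, 0] else [l]) * k := by
        interval_cases l
        · show k * permsK.val [0] = permsK.val [0] * k
          rw [val_zero]; exact hx
        · show k * permsK.val [1] = permsK.val [1] * k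
          rw [val_one]; exact (show Commute k kx from hx).inv_right.eq
        · show k * permsK.val [2] = permsK.val [2] * k
          rw [val_two]; exact hy
        · show k * permsK.val [3] = permsK.val [3] * k
          rw [val_three]; exact (show Commute k ky from hy).inv_right.eq
        · simp only [Nat.beq_refl, cond_true]
          rw [val_cons 4 [0, 0], val_four, val_sq]
          exact hz
      rw [val_cons, ← mul_assoc, e, mul_assoc, ih hw, List.flatMap_cons, permsK.val_append,
        mul_assoc]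
  obtain ⟨ha, -⟩ := words_spec
  have htl : okL (AW.flatMap fun l => bif Nat.beq l 4 then [4, 0, 0] else [l]) = true := by
    decide +kernel
  have e := tw AW five
  rw [(same_spec htl ha).1 twist_ok] at e
  obtain ⟨c, hc, rfl⟩ := centA k e
  obtain ⟨hcl, -⟩ := (cover_lt coverA).2 c hc
  have h := List.all_eq_true.1 noCentre c hc
  have c1 : commOk c [0] = true := (commOk_spec hcl rfl).2 (by rw [val_zero]; exact hx)
  have c2 : commOk c [2] = true := (commOk_spec hcl rfl).2 (by rw [val_two]; exact hy)
  have c3 : same (c ++ [4]) ([4, 0, 0] ++ c) = true :=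
    (same_spec (okL_append hcl rfl) (okL_append rfl hcl)).2 (by
      rw [permsK.val_append, permsK.val_append, val_cons 4 [0, 0], val_four, val_sq]
      exact hz)
  rw [c1, c2, c3] at h
  simp at h

/-- words in `y` and `x⁻¹ y x` -/
noncomputable def inU : List Nat → Bool
  | [] => true
  | 1 :: k :: 0 :: w => (Nat.beq k 2 || Nat.beq k 3) && inU w
  | k :: w => (Nat.beq k 2 || Nat.beq k 3) && inU w

/-- at most four elements commute with `y` and `x⁻¹ y x` -/
theorem centU_card :
    Nat.card (Subgroup.centralizer ({ky, kx⁻¹ * ky * kx} : Set GrpK)) ≤ 4 := by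
  set C := Subgroup.centralizer ({ky, kx⁻¹ * ky * kx} : Set GrpK)
  have extra : (Nat.beq (pimg [2] 0) 0 && Nat.beq (pimg [1, 2, 0] 0) 0 &&
      (STU.all fun e => e.2.all inU) && (STU.map Prod.fst).all (fun b => Nat.blt b 1408) &&
      ([3, 7, 8, 16] : List Nat).all (fun b => (STU.map Prod.fst).contains b)) = true := by
    decide +kernel
  simp only [Bool.and_eq_true, Nat.beq_eq, List.all_eq_true, List.contains_iff_mem] at extra
  obtain ⟨⟨⟨⟨y0, y1⟩, hin⟩, -⟩, hcov⟩ := extra
  have vU : permsK.val [1, 2, 0] = kx⁻¹ * ky * kx := by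
    rw [val_cons, val_cons 2 [0], val_one, val_two, val_zero, mul_assoc]
  have cy : ∀ c ∈ C, c * permsK.val [2] = permsK.val [2] * c := fun c hc => by
    rw [val_two]; exact (Subgroup.mem_centralizer_iff.1 hc ky (Or.inl rfl)).symm
  have cu : ∀ c ∈ C, c * permsK.val [1, 2, 0] = permsK.val [1, 2, 0] * c := fun c hc => by
    rw [vU]; exact (Subgroup.mem_centralizer_iff.1 hc _ (Or.inr rfl)).symm
  have cw : ∀ c ∈ C, ∀ w : List Nat, inU w = true → c * permsK.val w = permsK.val w * c := by
    intro c hc w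
    have step : ∀ u : List Nat, c * permsK.val u = permsK.val u * c → ∀ w : List Nat,
        c * permsK.val w = permsK.val w * c →
          c * permsK.val (u ++ w) = permsK.val (u ++ w) * c := fun u h1 w h2 => by
      rw [permsK.val_append]
      exact (show Commute c (permsK.val u) from h1).mul_right h2
    induction w using inU.induct with
    | case1 => intro _; rw [val_nil, mul_one, one_mul]
    | case2 k w ih =>
      intro h
      simp only [inU, Bool.and_eq_true, Bool.or_eq_true, Nat.beq_eq] at h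
      obtain ⟨hk, hw⟩ := h
      refine step [1, k, 0] ?_ w (ih hw)
      rcases hk with rfl | rfl
      · exact cu c hc
      · rw [show permsK.val [1, 3, 0] = (permsK.val [1, 2, 0])⁻¹ by
          rw [vU, val_cons, val_cons 3 [0], val_one, val_three, val_zero]; group]
        exact (show Commute c _ from cu c hc).inv_right
    | case3 k w hne ih =>
      intro h
      rw [inU] at h
      · simp only [Bool.and_eq_true, Bool.or_eq_true, Nat.beq_eq] at h
        obtain ⟨hk, hw⟩ := h
        refine step [k] ?_ w (ih hw)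
        rcases hk with rfl | rfl
        · exact cy c hc
        · rw [val_three, ← val_two]
          exact (show Commute c _ from cy c hc).inv_right
      · exact hne
  have mem4 : ∀ c ∈ C, (permsK.act c pt0 : Nat) ∈ ([0, 1, 2, 4] : List Nat) := by
    intro c hc
    have h := allBelow_spec fixU_ok (permsK.act c pt0 : Nat) ((Fin.isLt _).trans_eq n_pts)
    have fixp : ∀ u : List Nat, okL u = true → c * permsK.val u = permsK.val u * c →
        pimg u 0 = 0 → pimg u (permsK.act c pt0 : Nat) = (permsK.act c pt0 : Nat) := by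
      intro u hu hcu h0
      rw [pimg_act hu, ← permsK.act_mul, hcu, permsK.act_mul]
      congr 2
      exact Fin.ext ((pimg_act hu pt0).symm.trans h0)
    rw [fixp [2] rfl (cy c hc) y0, fixp [1, 2, 0] rfl (cu c hc) y1] at h
    simp only [Nat.beq_refl, Bool.not_true, Bool.false_or, List.any_eq_true] at h
    obtain ⟨r, hr, e⟩ := h
    rw [Nat.eq_of_beq_eq_true e]
    exact hr
  have triv : ∀ c ∈ C, permsK.act c pt0 = pt0 → c = 1 := by
    intro c hc h0
    refine k_faithful.1 _ fun i hi => ?_
    rw [base_eq] at hi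
    rcases List.mem_cons.1 hi with e | hi
    · obtain rfl : i = pt0 := Fin.ext e
      exact h0
    obtain ⟨e, he, hei⟩ := List.mem_map.1 (hcov _ hi)
    have h := List.all_eq_true.1 stu_ok e he
    simp only [Bool.and_eq_true, List.all_eq_true, Nat.beq_eq, Bool.or_eq_true, List.any_eq_true,
      Bool.not_eq_true'] at h
    obtain ⟨hw, hall⟩ := h
    have hm : (permsK.act c i : Nat) ∈ MEM.getD (labOf LAB e.1) [] := by
      rw [hei, ← lab_inv lab_ok h0 i]
      exact mem_lab lab_ok _
    rcases hall _ hm with hh | ⟨w, hw', hne⟩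
    · exact Fin.ext (hh.trans hei)
    · exfalso
      obtain ⟨hwl, hwf⟩ := hw w hw'
      rw [pimg_act hwl, ← permsK.act_mul, cw c hc w (hin e he w hw'), permsK.act_mul] at hne
      rw [hei] at hwf
      rw [pimg_act hwl] at hwf
      rw [show permsK.act (permsK.val w) i = i from Fin.ext hwf] at hne
      simp at hne
  have hf : ∀ c : C, ([0, 1, 2, 4] : List Nat).idxOf (permsK.act (c : GrpK) pt0 : Nat) < 4 :=
    fun c => List.idxOf_lt_length_iff.2 (mem4 c c.2)
  refine (Nat.card_le_card_of_injective (fun c : C => (⟨_, hf c⟩ : Fin 4)) ?_).trans (by simp)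
  intro c d e
  have e' := (List.idxOf_inj (mem4 c c.2)).1 (congrArg Fin.val e)
  have h1 : permsK.act ((c : GrpK) * (d : GrpK)⁻¹) pt0 = pt0 := by
    rw [permsK.act_mul, Fin.ext e', ← permsK.act_mul, mul_inv_cancel, permsK.act_one]
  exact Subtype.ext (mul_inv_eq_one.1 (triv _ (mul_mem c.2 (inv_mem d.2)) h1))

end CfsgLib.Spor.HNOut.KC
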