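import Cfsg.Agent.Lib.Spor.HN.ActRho
import Cfsg.Agent.Lib.Spor.HNOut.KFacts

/-!
Centralisers in the presented Harada-Norton group from its action on 1539000 points.
-/

set_option autoImplicit false

namespace CfsgLib.Spor.HNOut.GF

open CfsgLib.PresCert CfsgLib.DCE CfsgLib.Spor.HN KC

/-- the image of `x` -/
noncomputable abbrev X : GHN := psiK KC.kx
/-- the image of `y` -/
noncomputable abbrev Y : GHN := psiK KC.ky
/-- the image of `z` -/
noncomputable abbrev Z : GHN := psiK KC.kz
/-- the fourth generator -/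
noncomputable abbrev T : GHN := hgen 3

/-- the number of the first orbit -/
abbrev k0 : Fin AD.A.orbs.length := ⟨0, zero_lt_orbs⟩

instance : Finite GrpK := gk_finite

theorem ghn_finite : Finite GHN := Nat.finite_of_card_ne_zero (by rw [ghn_card]; decide)

theorem rho_psi (k : GrpK) (z : Omega) : rho (psiK k) z = k • z := by
  rw [← MonoidHom.comp_apply rho psiK, rho_psiK]
  rfl

theorem psi_fix (k : GrpK) : rho (psiK k) omega0 = omega0 := by
  rw [rho_psi, omega0, actK.smul_pnt, actK.pnt_eq_iff, stab0_top]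
  trivial

theorem fix_mem (g : GHN) (hg : rho g omega0 = omega0) : g ∈ psiK.range := by
  have := ghn_finite
  let _ : MulAction GHN Omega := MulAction.compHom Omega rho
  have : MulAction.IsPretransitive GHN Omega := by
    refine ⟨fun a b => ?_⟩
    obtain ⟨g, hg⟩ := rho_transitive a
    obtain ⟨g', hg'⟩ := rho_transitive b
    refine ⟨g' * g⁻¹, ?_⟩
    show rho (g' * g⁻¹) a = b
    rw [map_mul, map_inv, Equiv.Perm.mul_apply, ← hg, Equiv.Perm.inv_def, Equiv.symm_apply_apply,
      hg']
  have h1 : (MulAction.stabilizer GHN omega0).index = 1539000 := by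
    rw [MulAction.index_stabilizer_of_transitive, card_Omega]
  have hle : psiK.range ≤ MulAction.stabilizer GHN omega0 := by
    rintro _ ⟨u, rfl⟩
    exact psi_fix u
  have he : psiK.range = MulAction.stabilizer GHN omega0 := by
    refine le_antisymm hle (Subgroup.relIndex_eq_one.1 ?_)
    have := Subgroup.relIndex_mul_index hle
    rw [h1, psiK_index] at this
    omega
  rw [he]
  exact hg

theorem comm_fix {g : GHN} {k : GrpK} (h : g * psiK k = psiK k * g) :
    k • rho g omega0 = rho g omega0 := by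
  rw [← rho_psi, ← Equiv.Perm.mul_apply, ← map_mul, ← h, map_mul, Equiv.Perm.mul_apply, psi_fix]

theorem pnt_fixed {k : GrpK} {j : Fin AD.A.orbs.length} {h : GrpK}
    (e : k • actK.pnt j h = actK.pnt j h) : h * k⁻¹ * h⁻¹ ∈ actK.stab j := by
  rwa [actK.smul_pnt, actK.pnt_eq_iff] at e

theorem stab_order (j : Fin AD.A.orbs.length) :
    Nat.card (actK.stab j) = orders.getD j 0 :=
  stab_card j.2

theorem pnt_zero (h : GrpK) : actK.pnt k0 h = omega0 := by
  rw [omega0, actK.pnt_eq_iff, stab0_top]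
  trivial

/-- the elements commuting with the element of order eleven lie in the subgroup on `x, y, z` -/
theorem centA_range (g : GHN) (hg : g * psiK KC.ka = psiK KC.ka * g) : g ∈ psiK.range := by
  refine fix_mem g ?_
  have hfix := comm_fix hg
  obtain ⟨j, h, e⟩ := actK.pnt_surj (rho g omega0)
  change actK.pnt j h = rho g omega0 at e
  rw [← e] at hfix
  have hm := pnt_fixed hfix
  obtain ⟨-, -, -, hord, -⟩ := words_spec
  have ho : orderOf (h * KC.ka⁻¹ * h⁻¹) = 11 := by
    have := orderOf_injective (MulAut.conj h).toMonoidHom (MulAut.conj h).injective KC.ka⁻¹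
    rw [orderOf_inv, hord] at this
    exact this
  have hd : 11 ∣ orders.getD (j : Nat) 0 := by
    rw [← stab_order j, ← ho, ← Subgroup.orderOf_mk _ hm]
    exact orderOf_dvd_natCard _
  have hall : allBelow 9 (fun k => Nat.beq k 0 || !Nat.beq (orders.getD k 0 % 11) 0) = true := by
    decide +kernel
  have := allBelow_spec hall (j : Nat) (j.2.trans_eq len_orbs)
  simp only [Bool.or_eq_true, Nat.beq_eq, Bool.not_eq_true'] at this
  rcases this with h0 | h0
  · rw [← e, show j = k0 from Fin.ext h0, pnt_zero]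
  · rw [Nat.mod_eq_zero_of_dvd hd] at h0
    simp at h0

/-- `x²` moves the tuples of six orbits -/
theorem sq_moves : allBelow 9 (fun k => Nat.beq k 0 || Nat.beq k 2 || Nat.beq k 7 ||
    allBelow (AD.A.orb k).tup.b fun d => !(List.range (AD.A.orb k).tup.m).all fun j =>
      Nat.beq (pimg [0, 0] ((AD.A.orb k).tup.get 0 j)) ((AD.A.orb k).tup.get d j)) = true := by
  decide +kernel

theorem sq_stab (j : Fin AD.A.orbs.length) (h : KC.kx ^ 2 ∈ actK.stab j) :
    (j : Nat) = 0 ∨ (j : Nat) = 2 ∨ (j : Nat) = 7 := by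
  have hj := allBelow_spec sq_moves (j : Nat) (j.2.trans_eq len_orbs)
  simp only [Bool.or_eq_true, Nat.beq_eq, or_assoc] at hj
  rcases hj with hj | hj | hj | hj
  · exact Or.inl hj
  · exact Or.inr (Or.inl hj)
  · exact Or.inr (Or.inr hj)
  exfalso
  obtain ⟨hg, -, hc⟩ := actK.toActBase.orb_spec j.2
  have hx : (AD.A.orb j).tup.InX permsK (KC.kx ^ 2) :=
    TOrb.sub_inX permsK _ AD.flat_ok hg hc _ h
  obtain ⟨d, hd, hx⟩ := hx
  have hd' := allBelow_spec hj d hd
  simp only [TOrb.okClosedT, Bool.and_eq_true, Nat.blt_eq] at hc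
  have hlt := allBelow_spec hc.2 0 hc.1
  simp only [Bool.and_eq_true] at hlt
  have hbad : (List.range (AD.A.orb (j : Nat)).tup.m).all (fun i =>
      Nat.beq (pimg [0, 0] ((AD.A.orb (j : Nat)).tup.get 0 i))
        ((AD.A.orb (j : Nat)).tup.get d i)) = true := by
    rw [List.all_eq_true]
    intro i hi
    rw [List.mem_range] at hi
    have hb := allBelow_spec hlt.1 i hi
    simp only [Nat.blt_eq] at hb
    rw [pimg_act (w := [0, 0]) rfl ⟨_, hb⟩, val_sq, hx i hi ⟨_, hb⟩ rfl]
    exact Nat.beq_refl _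
  rw [hbad] at hd'
  simp at hd'

/-- only the subgroup on `x, y, z` commutes with `x²` -/
theorem centX_range (g : GHN) (hg : g * X ^ 2 = X ^ 2 * g) : g ∈ psiK.range := by
  classical
  have := ghn_finite
  set C := Subgroup.centralizer ({X ^ 2} : Set GHN) with hC
  have hin : ∀ k, psiK k ∈ C := fun k => by
    refine Subgroup.mem_centralizer_singleton_iff.2 ?_
    rw [← map_pow, ← map_mul, ← map_mul, sq_central]
  have hle : psiK.range ≤ C := by rintro _ ⟨k, rfl⟩; exact hin k
  let act : MulAction C Omega := MulAction.compHom Omega (rho.comp C.subtype)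
  let S : Set Omega := MulAction.orbit C omega0
  have hS : ∀ c : C, rho (c : GHN) omega0 ∈ S := fun c => ⟨c, rfl⟩
  have hstab : MulAction.stabilizer C omega0 = psiK.range.subgroupOf C := by
    ext c
    constructor
    · intro h; exact fix_mem _ h
    · rintro ⟨k, e⟩
      show rho (c : GHN) omega0 = omega0
      have e' : psiK k = (c : GHN) := e
      rw [← e', psi_fix]
  have hS0 : omega0 ∈ S := MulAction.mem_orbit_self _
  have hclos : ∀ z ∈ S, ∀ k : GrpK, k • z ∈ S := by
    rintro _ ⟨c, rfl⟩ k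
    refine ⟨⟨psiK k, hin k⟩ * c, ?_⟩
    show rho (psiK k * (c : GHN)) omega0 = k • rho (c : GHN) omega0
    rw [map_mul, Equiv.Perm.mul_apply, rho_psi]
  have hk : ∀ j h, actK.pnt j h ∈ S → (j : Nat) = 0 ∨ (j : Nat) = 2 ∨ (j : Nat) = 7 := by
    rintro j h ⟨c, e⟩
    change rho (c : GHN) omega0 = actK.pnt j h at e
    have hfix := comm_fix (g := (c : GHN)) (k := KC.kx ^ 2) (by
      rw [map_pow]; exact (Subgroup.mem_centralizer_singleton_iff.1 c.2))
    rw [e] at hfix
    have hm := pnt_fixed hfix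
    rw [show h * (KC.kx ^ 2)⁻¹ * h⁻¹ = (KC.kx ^ 2)⁻¹ from by
      rw [mul_inv_eq_iff_eq_mul]
      exact ((show Commute (KC.kx ^ 2) h from sq_central h).inv_left).eq.symm] at hm
    exact sq_stab j (by simpa using inv_mem hm)
  let p : Fin AD.A.orbs.length → Prop := fun j => ∃ h, actK.pnt j h ∈ S
  have hmem : ∀ z : Omega, z ∈ S ↔ p z.1 := by
    intro z
    obtain ⟨j, h, rfl⟩ := actK.pnt_surj z
    constructor
    · intro hz; exact ⟨h, hz⟩
    · rintro ⟨h', hz⟩
      change actK.pnt j h' ∈ S at hz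
      have := hclos _ hz (h⁻¹ * h')
      rw [actK.smul_pnt] at this
      simpa using this
  have hcardS : Nat.card S = psiK.range.relIndex C := by
    rw [Subgroup.relIndex, ← hstab, MulAction.index_stabilizer]
    rfl
  have hdvd : Nat.card S ∣ 1539000 := by
    rw [hcardS, ← psiK_index]
    exact Subgroup.relIndex_dvd_index_of_le hle
  have hsum : Nat.card S = ∑ j : Subtype p, 177408000 / orders.getD (j : Fin AD.A.orbs.length) 0 := by
    have e : Nat.card S = Nat.card (Σ j : Subtype p, GrpK ⧸ actK.stab j.1) := by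
      refine Nat.card_congr ((Equiv.subtypeEquivRight hmem).trans ?_)
      exact Equiv.subtypeSigmaEquiv (fun j => GrpK ⧸ actK.stab j) p
    rw [e, Nat.card_sigma]
    refine Finset.sum_congr rfl fun j _ => ?_
    have h1 := (actK.stab j.1).index_mul_card
    rw [k_faithful.2, stab_order j.1] at h1
    rw [← h1]
    refine (Nat.mul_div_left _ ?_).symm
    rw [← stab_order j.1]
    exact Nat.card_pos
  have hp0 : p k0 := ⟨1, hS0⟩
  have hp : ∀ j, p j → (j : Nat) = 0 ∨ (j : Nat) = 2 ∨ (j : Nat) = 7 := fun j ⟨h, hh⟩ => hk j h hh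
  have l2 : 2 < AD.A.orbs.length := by rw [len_orbs]; omega
  have l7 : 7 < AD.A.orbs.length := by rw [len_orbs]; omega
  have one : Nat.card S = 1 := by
    let f : Fin AD.A.orbs.length → Nat := fun j => 177408000 / orders.getD (j : Nat) 0
    have hs' : Nat.card S = ∑ j ∈ Finset.univ.filter p, f j := by
      rw [hsum]
      exact (Finset.sum_subtype _ (fun x => by simp [p]) f).symm
    have hf0 : f k0 = 1 := by
      show 177408000 / orders.getD 0 0 = 1
      decide +kernel
    have hf2 : f ⟨2, l2⟩ = 2200 := by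
      show 177408000 / orders.getD 2 0 = 2200
      decide +kernel
    have hf7 : f ⟨7, l7⟩ = 5775 := by
      show 177408000 / orders.getD 7 0 = 5775
      decide +kernel
    have hset : Finset.univ.filter p = insert k0 ((if p ⟨2, l2⟩ then {⟨2, l2⟩} else ∅) ∪
        (if p ⟨7, l7⟩ then {⟨7, l7⟩} else ∅)) := by
      ext j
      simp only [Finset.mem_filter, Finset.mem_univ, true_and, Finset.mem_insert, Finset.mem_union]
      constructor
      · intro hj
        rcases hp j hj with e | e | e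
        · exact Or.inl (Fin.ext e)
        · obtain rfl : j = ⟨2, l2⟩ := Fin.ext e
          exact Or.inr (Or.inl (by simp [hj]))
        · obtain rfl : j = ⟨7, l7⟩ := Fin.ext e
          exact Or.inr (Or.inr (by simp [hj]))
      · rintro (rfl | h | h)
        · exact hp0
        · split_ifs at h with q
          · rw [Finset.mem_singleton.1 h]; exact q
          · simp at h
        · split_ifs at h with q
          · rw [Finset.mem_singleton.1 h]; exact q
          · simp at h
    rw [hs', hset] at hdvd ⊢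
    split_ifs at hdvd ⊢
    all_goals
      simp [Finset.sum_insert, Fin.ext_iff, hf0, hf2, hf7] at hdvd ⊢
  refine fix_mem g ?_
  obtain ⟨hs, -⟩ := Nat.card_eq_one_iff_unique.1 one
  exact congrArg Subtype.val (Subsingleton.elim
    (⟨_, hS ⟨g, Subgroup.mem_centralizer_singleton_iff.2 hg⟩⟩ : S) ⟨_, hS0⟩)

theorem T5 : T ^ 5 = 1 := by
  rw [← HN.ht5]; simp [pow_succ]

theorem TX : X⁻¹ * T * X = T ^ 3 := by
  have h5 : T ^ 3 * (T * T) = 1 := by rw [← pow_two, ← pow_add, T5]
  rw [show X = hgen 0 from (psiK_gen 0).trans rfl, hxt]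
  exact (eq_inv_of_mul_eq_one_left h5).symm

theorem TY : T * Y = Y * T := by
  rw [show Y = hgen 1 from (psiK_gen 1).trans rfl]
  exact HN.hty.symm

theorem TY' : T * (X⁻¹ * Y * X) = X⁻¹ * Y * X * T := by
  have h3 : Commute (X⁻¹ * T * X) (X⁻¹ * Y * X) := by
    calc X⁻¹ * T * X * (X⁻¹ * Y * X) = X⁻¹ * (T * Y) * X := by group
      _ = X⁻¹ * Y * X * (X⁻¹ * T * X) := by rw [TY]; group
  rw [TX] at h3
  have h6 := h3.pow_left 2
  rw [← pow_mul, show 3 * 2 = 5 + 1 from rfl, pow_add, T5, one_mul, pow_one] at h6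
  exact h6

theorem run_moves {l : List Nat} (hl : (l.all fun x => Nat.blt x 7) = true)
    (he : Nat.beq (AD.A.runW l (0, [])).1 0 = false) (h : rho (wv hgen l) omega0 = omega0) :
    False := by
  simp only [List.all_eq_true, Nat.blt_eq] at hl
  have hw : wv rhoGen l = rho (wv hgen l) := by
    rw [map_wv]
    exact congrArg (fun f => wv f l) (funext fun i => (rho_hgen i).symm)
  obtain ⟨hj, -, hr⟩ := actK.run_word l k0 [] (by simp)
  rw [← run_rho _ hl, hw] at hr
  have h0 : actK.pnt k0 (actK.M.val []) = omega0 := pnt_zero _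
  rw [h0, Equiv.Perm.inv_eq_iff_eq.2 h.symm] at hr
  have e := congrArg (fun z : Omega => (z.1 : Nat)) hr
  change 0 = (AD.A.runW l (0, [])).1 at e
  rw [← e] at he
  simp at he

theorem T_moves : rho T omega0 ≠ omega0 := fun h =>
  run_moves (l := [6]) rfl (by decide +kernel) (by simpa [wv, lv] using h)

theorem T_ne : T ≠ 1 := fun h => T_moves (by rw [h, map_one]; rfl)

theorem h2_ne : (Z * T ^ 2) ^ 3 ≠ 1 := fun h =>
  run_moves (l := [4, 6, 6, 4, 6, 6, 4, 6, 6]) rfl (by decide +kernel) (by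
    have e : wv hgen [4, 6, 6, 4, 6, 6, 4, 6, 6] = (Z * T ^ 2) ^ 3 := by
      rw [show Z = hgen 2 from (psiK_gen 2).trans rfl]
      simp [wv, lv, pow_succ, mul_assoc]
    rw [e, h, map_one]; rfl)

theorem h1_ne : (Z * X ^ 2 * T) ^ 3 ≠ 1 := fun h =>
  run_moves (l := [4, 0, 0, 6, 4, 0, 0, 6, 4, 0, 0, 6]) rfl (by decide +kernel) (by
    have e : wv hgen [4, 0, 0, 6, 4, 0, 0, 6, 4, 0, 0, 6] = (Z * X ^ 2 * T) ^ 3 := by
      rw [show Z = hgen 2 from (psiK_gen 2).trans rfl, show X = hgen 0 from (psiK_gen 0).trans rfl]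
      simp [wv, lv, pow_succ, mul_assoc]
    rw [e, h, map_one]; rfl)

theorem fix_le :
    Nat.card (permsK.fixIn ⊤ ([0] : List Nat)) ≤ 126000 := by
  have h1 : okWLevels GK.P [] (GK.ls.take 1) = true := okWLevels_take _ _ _ GK.levels_ok
  have hb := permsK.wlevels_bound ⊤ _ [] h1 fun _ _ _ _ => trivial
  rw [show ((GK.ls.take 1).map WLevel.len).prod = 1408 from by decide +kernel, List.map_take,
    bases_k, base_eq] at hb
  have h2 := hb.trans (Subgroup.card_le_card_group _)
  rw [k_faithful.2] at h2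
  have h3 : Nat.card (permsK.fixIn ⊤ ((([0, 3, 7, 8, 16] : List Nat).take 1).reverse ++ [])) =
      Nat.card (permsK.fixIn ⊤ ([0] : List Nat)) := rfl
  omega

/-- an element fixing the first point lies in the stabiliser of the second orbit -/
theorem fix0_stab (h1 : 1 < AD.A.orbs.length) :
    actK.stab ⟨1, h1⟩ = permsK.fixIn ⊤ ([0] : List Nat) := by
  refine Subgroup.eq_of_le_of_card_ge ?_ ?_
  · show permsK.sub (AD.A.orb 1).gens ≤ _
    rw [Perms.sub, Subgroup.closure_le]
    rintro _ ⟨w, hw, rfl⟩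
    have hall : ((AD.A.orb 1).gens.all fun w => (w.all fun x => Nat.blt x GK.P.g) &&
        Nat.beq (GK.P.app w 0) 0) = true := by decide +kernel
    have := List.all_eq_true.1 hall w hw
    simp only [Bool.and_eq_true, List.all_eq_true, Nat.blt_eq, Nat.beq_eq] at this
    refine ⟨trivial, fun i hi => Fin.ext ?_⟩
    rw [← permsK.app_eq w this.1 i, List.mem_singleton.1 hi]
    exact this.2
  · rw [stab_order ⟨1, h1⟩]
    refine fix_le.trans ?_
    show 126000 ≤ orders.getD 1 0
    decide +kernel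

/-- the fixed points of `⟨y, x⁻¹ y x⟩` are among five -/
theorem fixed_five : ∃ F : Finset Omega, F.card ≤ 5 ∧ ∀ z : Omega,
    KC.ky • z = z → (KC.kx⁻¹ * KC.ky * KC.kx) • z = z → z ∈ F := by
  classical
  have h1 : 1 < AD.A.orbs.length := by rw [len_orbs]; omega
  set U := permsK.sub GK.V0ws with hU
  have hcardU : 126000 ≤ Nat.card U :=
    le_trans (by decide +kernel : 126000 ≤ (GK.V0ls.map WLevel.len).prod)
      (k_sub_card GK.v0_els GK.V0ls GK.v0_levels GK.v0_gens)
  have hex : ∀ r ∈ ([0, 1, 2, 4] : List Nat), ∃ z : Omega, ∀ h : GrpK,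
      (permsK.act h pt0 : Nat) = r → actK.pnt ⟨1, h1⟩ h = z := by
    intro r _
    by_cases he : ∃ h : GrpK, (permsK.act h pt0 : Nat) = r
    · obtain ⟨h', e'⟩ := he
      refine ⟨actK.pnt ⟨1, h1⟩ h', fun h e => ?_⟩
      rw [actK.pnt_eq_iff, fix0_stab h1]
      refine ⟨trivial, fun i hi => ?_⟩
      obtain rfl : i = pt0 := Fin.ext (List.mem_singleton.1 hi)
      rw [permsK.act_mul, Fin.ext (e.trans e'.symm), ← permsK.act_mul, mul_inv_cancel,
        permsK.act_one]
    · exact ⟨omega0, fun h e => absurd ⟨h, e⟩ he⟩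
  have : Nonempty Omega := ⟨omega0⟩
  choose! f hf using hex
  refine ⟨insert omega0 (([0, 1, 2, 4] : List Nat).toFinset.image f), ?_, fun z hy hy' => ?_⟩
  · refine (Finset.card_insert_le _ _).trans ?_
    have : (([0, 1, 2, 4] : List Nat).toFinset.image f).card ≤ 4 :=
      Finset.card_image_le.trans (List.toFinset_card_le _)
    omega
  obtain ⟨j, h, e⟩ := actK.pnt_surj z
  subst e
  have vU : permsK.val [1, 2, 0] = KC.kx⁻¹ * KC.ky * KC.kx := by
    rw [KC.val_cons, KC.val_cons 2 [0], val_one, val_two, val_zero, mul_assoc]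
  have vU' : permsK.val [1, 3, 0] = (KC.kx⁻¹ * KC.ky * KC.kx)⁻¹ := by
    rw [KC.val_cons, KC.val_cons 3 [0], val_one, val_three, val_zero]; group
  have hconj : U ≤ (actK.stab j).comap (MulAut.conj h).toMonoidHom := by
    rw [hU, Perms.sub, Subgroup.closure_le]
    rintro _ ⟨w, hw, rfl⟩
    show h * permsK.val w * h⁻¹ ∈ actK.stab j
    simp only [GK.V0ws, List.mem_cons, List.not_mem_nil, or_false] at hw
    have a1 := inv_mem (pnt_fixed hy)
    have a2 := inv_mem (pnt_fixed hy')
    simp only [mul_inv_rev, inv_inv, ← mul_assoc] at a1 a2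
    rcases hw with rfl | rfl | rfl | rfl
    · rw [val_two]; exact a1
    · rw [val_three]; exact pnt_fixed hy
    · rw [vU]; simpa [mul_assoc] using a2
    · rw [vU']; exact pnt_fixed hy'
  have hle : Nat.card U ≤ orders.getD (j : Nat) 0 := by
    rw [← stab_order j]
    exact Nat.card_le_card_of_injective
      (fun u : U => (⟨h * (u : GrpK) * h⁻¹, hconj u.2⟩ : actK.stab j)) fun u v e =>
        Subtype.ext ((MulAut.conj h).injective (congrArg Subtype.val e :))
  have hall : allBelow 9 (fun k => Nat.blt k 2 || Nat.blt (orders.getD k 0) 126000) = true := by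
    decide +kernel
  have := allBelow_spec hall (j : Nat) (j.2.trans_eq len_orbs)
  simp only [Bool.or_eq_true, Nat.blt_eq] at this
  have hj : (j : Nat) = 0 ∨ (j : Nat) = 1 := by omega
  rcases hj with hj | hj
  · rw [show j = k0 from Fin.ext hj, pnt_zero]
    exact Finset.mem_insert_self _ _
  obtain rfl : j = ⟨1, h1⟩ := Fin.ext hj
  have hfx : ∀ w : List Nat, okL w = true → permsK.val w ∈ U →
      pimg w (permsK.act h pt0 : Nat) = (permsK.act h pt0 : Nat) := by
    intro w hw hu
    have := hconj hu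
    rw [Subgroup.mem_comap, fix0_stab h1] at this
    have e := this.2 pt0 (List.mem_singleton.2 rfl)
    change permsK.act (h * permsK.val w * h⁻¹) pt0 = pt0 at e
    rw [pimg_act hw, ← permsK.act_mul]
    have e' := congrArg (permsK.act h) e
    rw [← permsK.act_mul, inv_mul_cancel_right] at e'
    rw [e']
  have hr := allBelow_spec fixU_ok (permsK.act h pt0 : Nat) ((Fin.isLt _).trans_eq n_pts)
  rw [hfx [2] rfl (Subgroup.subset_closure ⟨_, by simp [GK.V0ws], rfl⟩),
    hfx [1, 2, 0] rfl (Subgroup.subset_closure ⟨_, by simp [GK.V0ws], rfl⟩)] at hr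
  simp only [Nat.beq_refl, Bool.not_true, Bool.false_or, List.any_eq_true] at hr
  obtain ⟨r, hr, e⟩ := hr
  have e := Nat.eq_of_beq_eq_true e
  rw [hf r hr h e]
  exact Finset.mem_insert_of_mem (Finset.mem_image_of_mem f (List.mem_toFinset.2 hr))

theorem hU_spec (g : GHN) (hy : g * Y = Y * g) (hy' : g * (X⁻¹ * Y * X) = X⁻¹ * Y * X * g)
    (h5 : g ^ 5 = 1) : ∃ i : ℕ, i < 5 ∧ g = T ^ i := by
  classical
  have := ghn_finite
  have : Fact (5 : ℕ).Prime := ⟨by norm_num⟩
  set C := Subgroup.centralizer ({Y, X⁻¹ * Y * X} : Set GHN) with hC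
  have memC : ∀ u : GHN, u * Y = Y * u → u * (X⁻¹ * Y * X) = X⁻¹ * Y * X * u → u ∈ C := by
    intro u a b
    rw [hC, Subgroup.mem_centralizer_iff]
    rintro v (rfl | rfl)
    · exact a.symm
    · exact b.symm
  have hT : T ∈ C := memC _ TY TY'
  obtain ⟨F, hF, hFm⟩ := fixed_five
  have inF : ∀ c ∈ C, rho c omega0 ∈ F := fun c hc => by
    refine hFm _ (comm_fix ((Subgroup.mem_centralizer_iff.1 hc _ (Or.inl rfl)).symm)) ?_
    refine comm_fix ?_
    rw [map_mul, map_mul, map_inv]
    exact (Subgroup.mem_centralizer_iff.1 hc _ (Or.inr rfl)).symm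
  have hord : orderOf T = 5 := orderOf_eq_prime T5 T_ne
  have hdist : ∀ i j : Fin 5, rho (T ^ (i : ℕ)) omega0 = rho (T ^ (j : ℕ)) omega0 → i = j := by
    intro i j e
    by_contra hne
    have hk : ∀ i j : Fin 5, i ≠ j → ∃ m < 5, m * ((i : ℕ) + 4 * (j : ℕ)) % 5 = 1 := by decide
    obtain ⟨m, -, hm⟩ := hk i j hne
    have fx : ∀ n : ℕ, rho (T ^ (((i : ℕ) + 4 * (j : ℕ)) * n)) omega0 = omega0 := by
      have one : rho (T ^ ((i : ℕ) + 4 * (j : ℕ))) omega0 = omega0 := by
        rw [Nat.add_comm, pow_add, map_mul, Equiv.Perm.mul_apply, e, ← Equiv.Perm.mul_apply,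
          ← map_mul, ← pow_add, show 4 * (j : ℕ) + j = 5 * (j : ℕ) by ring, pow_mul, T5, one_pow,
          map_one]
        rfl
      intro n
      induction n with
      | zero => simp
      | succ n ih => rw [Nat.mul_succ, pow_add, map_mul, Equiv.Perm.mul_apply, one, ih]
    have := fx m
    rw [← pow_mod_orderOf, hord, mul_comm, hm, pow_one] at this
    exact T_moves this
  have hsurj : ∀ c ∈ C, ∃ i : Fin 5, ∃ k : GrpK,
      k ∈ Subgroup.centralizer ({KC.ky, KC.kx⁻¹ * KC.ky * KC.kx} : Set GrpK) ∧ c = T ^ (i : ℕ) * psiK k := by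
    intro c hc
    have himg : (Finset.univ.image fun i : Fin 5 => rho (T ^ (i : ℕ)) omega0) = F := by
      refine Finset.eq_of_subset_of_card_le ?_ ?_
      · intro z hz
        obtain ⟨i, -, rfl⟩ := Finset.mem_image.1 hz
        exact inF _ (pow_mem hT _)
      · rw [Finset.card_image_of_injective _ hdist]
        simpa using hF
    obtain ⟨i, -, hi⟩ := Finset.mem_image.1 (himg.symm ▸ inF c hc)
    obtain ⟨k, hk⟩ := fix_mem ((T ^ (i : ℕ))⁻¹ * c) (by
      rw [map_mul, Equiv.Perm.mul_apply, ← hi, ← Equiv.Perm.mul_apply, ← map_mul, inv_mul_cancel,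
        map_one]
      rfl)
    refine ⟨i, k, ?_, by rw [hk, mul_inv_cancel_left]⟩
    have hkC : psiK k ∈ C := hk ▸ mul_mem (inv_mem (pow_mem hT _)) hc
    rw [Subgroup.mem_centralizer_iff]
    rintro v (rfl | rfl) <;> refine psiK_injective ?_
    · rw [map_mul, map_mul]
      exact Subgroup.mem_centralizer_iff.1 hkC _ (Or.inl rfl)
    · rw [map_mul, map_mul psiK k, map_mul psiK (KC.kx⁻¹ * KC.ky), map_mul psiK KC.kx⁻¹, map_inv]
      exact Subgroup.mem_centralizer_iff.1 hkC _ (Or.inr rfl)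
  have hcard : Nat.card C ≤ 20 := by
    choose i k hk he using hsurj
    refine (Nat.card_le_card_of_injective (fun c : C =>
      (i c c.2, (⟨k c c.2, hk c c.2⟩ :
        Subgroup.centralizer ({KC.ky, KC.kx⁻¹ * KC.ky * KC.kx} : Set GrpK)))) ?_).trans ?_
    · intro a b e
      simp only [Prod.mk.injEq, Subtype.mk.injEq] at e
      exact Subtype.ext (by rw [he a a.2, he b b.2, e.1, e.2])
    · rw [Nat.card_prod, Nat.card_eq_fintype_card (α := Fin 5), Fintype.card_fin]
      exact (Nat.mul_le_mul_left 5 centU_card).trans (by norm_num)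
  by_contra hcon
  push Not at hcon
  have hg : g ∈ C := memC g hy hy'
  have aux : ∀ i j i' j' : Fin 5, (j : ℕ) < j' →
      T ^ (i : ℕ) * g ^ (j : ℕ) = T ^ (i' : ℕ) * g ^ (j' : ℕ) → False := by
    intro i j i' j' hlt e
    have hz : g ^ ((j' : ℕ) - j) ∈ Subgroup.zpowers T := by
      have e2 : g ^ ((j' : ℕ) - j) = (T ^ (i' : ℕ))⁻¹ * T ^ (i : ℕ) := by
        rw [pow_sub g hlt.le, eq_inv_mul_iff_mul_eq, ← mul_assoc, ← e, mul_inv_cancel_right]
      rw [e2]
      exact mul_mem (inv_mem (pow_mem (Subgroup.mem_zpowers T) _))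
        (pow_mem (Subgroup.mem_zpowers T) _)
    have hk : ∀ d < 5, 0 < d → ∃ m < 5, d * m % 5 = 1 := by decide
    obtain ⟨m, -, hm⟩ := hk _ (by omega : (j' : ℕ) - j < 5) (by omega)
    have hgz : g ∈ Subgroup.zpowers T := by
      have := pow_mem hz m
      rwa [← pow_mul, pow_eq_pow_mod _ h5, hm, pow_one] at this
    obtain ⟨n, hn⟩ := (isOfFinOrder_of_finite T).mem_powers_iff_mem_zpowers.2 hgz
    exact hcon (n % 5) (Nat.mod_lt _ (by norm_num)) (by
      rw [← pow_eq_pow_mod _ T5]; exact hn.symm)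
  have hinj : Function.Injective (fun q : Fin 5 × Fin 5 =>
      (⟨T ^ (q.1 : ℕ) * g ^ (q.2 : ℕ), mul_mem (pow_mem hT _) (pow_mem hg _)⟩ : C)) := by
    rintro ⟨i, j⟩ ⟨i', j'⟩ e
    have e' := congrArg Subtype.val e
    rcases lt_trichotomy (j : ℕ) j' with h | h | h
    · exact absurd e' (aux i j i' j' h)
    · obtain rfl : j = j' := Fin.ext h
      obtain rfl : i = i' := hdist i i' (by rw [mul_right_cancel e'])
      rfl
    · exact absurd e'.symm (aux i' j' i j h)
  have := Nat.card_le_card_of_injective _ hinj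
  rw [Nat.card_prod, Nat.card_eq_fintype_card, Fintype.card_fin] at this
  omega

/-- automorphisms fixing `x²` act on the subgroup on `x, y, z` by inner automorphisms and the
twist -/
theorem hK_spec (φ : MulAut GHN) (hφ : φ (X ^ 2) = X ^ 2) : ∃ k : GHN, φ X = k * X * k⁻¹ ∧
    φ Y = k * Y * k⁻¹ ∧ (φ Z = k * Z * k⁻¹ ∨ φ Z = k * (Z * X ^ 2) * k⁻¹) := by
  have stable : ∀ χ : MulAut GHN, χ (X ^ 2) = X ^ 2 → ∀ k, χ (psiK k) ∈ psiK.range := by
    intro χ hχ k
    refine centX_range _ ?_
    rw [← hχ, ← map_mul, ← map_mul, ← map_pow psiK, ← map_mul psiK, ← map_mul psiK, sq_central]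
  choose f hf using stable φ hφ
  have hφ' : φ.symm (X ^ 2) = X ^ 2 := φ.symm_apply_eq.2 hφ.symm
  choose f' hf' using stable φ.symm hφ'
  let ψ : MulAut GrpK :=
    { toFun := f
      invFun := f'
      left_inv := fun k => psiK_injective (by rw [hf', hf]; exact φ.symm_apply_apply _)
      right_inv := fun k => psiK_injective (by rw [hf, hf']; exact φ.apply_symm_apply _)
      map_mul' := fun a b => psiK_injective (by rw [map_mul, hf, hf, hf, map_mul, map_mul]) }
  have hψ : ∀ k, psiK (ψ k) = φ (psiK k) := hf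
  obtain ⟨k, e1, e2, e3⟩ := aut_spec ψ
  have tr : ∀ s r : GrpK, ψ s = k * r * k⁻¹ → φ (psiK s) = psiK k * psiK r * (psiK k)⁻¹ := by
    intro s r e
    rw [← hψ, e, map_mul, map_mul, map_inv]
  refine ⟨psiK k, tr _ _ e1, tr _ _ e2, e3.imp (tr _ _) fun e => ?_⟩
  rw [tr _ _ e, map_mul, map_pow]

theorem hθ_spec (g : GHN) (hx : g * X = X * g) (hy : g * Y = Y * g) :
    g * Z * g⁻¹ ≠ Z * X ^ 2 := by
  intro hz
  obtain ⟨k, rfl⟩ := centX_range g ((show Commute g X from hx).pow_right 2)
  refine no_twist k (psiK_injective ?_) (psiK_injective ?_) (psiK_injective ?_)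
  · rw [map_mul, map_mul]; exact hx
  · rw [map_mul, map_mul]; exact hy
  · rw [map_mul, map_mul, map_mul, map_pow]; exact mul_inv_eq_iff_eq_mul.1 hz

end CfsgLib.Spor.HNOut.GF
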