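import Cfsg.Agent.Lib.Spor.HN.GKPerm
import Cfsg.Agent.Lib.Spor.HN.GKData
import Cfsg.Agent.Lib.Spor.HN.GKSub
import Cfsg.Agent.Lib.Spor.HN.ActData

/-!
Tests for centralisers in the group on `x, y, z` by orbit labels of pairs of points.
-/

set_option autoImplicit false

namespace CfsgLib.Spor.HNOut.KC

open CfsgLib.PresCert CfsgLib.DCE CfsgLib.Spor.HN

/-- image of a point under a word -/
noncomputable def pimg (w : List Nat) (i : Nat) : Nat := fapp AD.ft w i

/-- the point of a word -/
noncomputable def pw (w : List Nat) : Nat := pimg w (nat_lit 0)

/-- preimage of a point under a word -/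
noncomputable def pre (w : List Nat) (i : Nat) : Nat := bapp AD.ft w i

/-- label of a point -/
noncomputable def labOf (L v : Nat) : Nat :=
  Nat.land (Nat.shiftRight L (Nat.shiftLeft v (nat_lit 2))) (nat_lit 15)

/-- label of a point relative to the point of a word -/
noncomputable def labW (L : Nat) (u : List Nat) (r : Nat) : Nat := labOf L (pre u r)

/-- the letters of a word are letters of the tables -/
noncomputable def okL (w : List Nat) : Bool := w.all fun x => Nat.blt x (nat_lit 6)

/-- the labels are invariant and the classes are listed -/
noncomputable def okLab (L : Nat) (mem : List (List Nat)) : Bool :=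
  allBelow (nat_lit 1408) fun v =>
    (GK.V0ws.all fun w => Nat.beq (labOf L (pimg w v)) (labOf L v)) &&
      (mem.getD (labOf L v) []).any (Nat.beq v)

/-- two words give the same element -/
noncomputable def same (u v : List Nat) : Bool :=
  GK.base.all fun b => Nat.beq (pimg u b) (pimg v b)

/-- two words commute -/
noncomputable def commOk (u v : List Nat) : Bool := same (u ++ v) (v ++ u)

/-- the orbit of a point under an element, and of its image -/
structure Step where
  src : List (List Nat)
  dst : List (List Nat)

/-- a representative, what is forced, and either a point without image or the element -/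
structure Case where
  q : List Nat
  steps : List (Step × Nat)
  dead : Bool
  b : Nat
  i : Nat
  w : List Nat

/-- consecutive points differ by the element -/
noncomputable def okChain (m : List Nat) : List (List Nat) → Bool
  | [] => true
  | [w] => okL w
  | w :: v :: l => okL w && Nat.beq (pimg m (pw w)) (pw v) && okChain m (v :: l)

/-- the pairs of a step -/
noncomputable def pairsOf (s : Step) : List (List Nat × List Nat) := s.src.zip s.dst

/-- all possible images of `b` are refuted, except `keep` -/
noncomputable def onlyImg (L : Nat) (mem : List (List Nat)) (Q : List (List Nat × List Nat))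
    (i b keep : Nat) : Bool :=
  let p := Q.getD i ([], [])
  Nat.blt i Q.length && Nat.blt b (nat_lit 1408) &&
    ((mem.getD (labW L p.1 b) []).all fun s =>
      let r := pimg p.2 s
      Nat.beq r keep || Q.any fun e => !Nat.beq (labW L e.1 b) (labW L e.2 r))

/-- the steps after the first are forced -/
noncomputable def okSteps (L : Nat) (mem : List (List Nat)) (m : List Nat) :
    List (List Nat × List Nat) → List (Step × Nat) → Bool
  | _, [] => true
  | Q, si :: l =>
    okChain m si.1.src && okChain m si.1.dst &&
      onlyImg L mem Q si.2 (pw (si.1.src.headD [])) (pw (si.1.dst.headD [])) &&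
      okSteps L mem m (Q ++ pairsOf si.1) l

/-- the pairs from all steps -/
noncomputable def allPairs (ss : List (Step × Nat)) : List (List Nat × List Nat) :=
  ss.flatMap fun si => pairsOf si.1

/-- an element with the given images of the first four base points -/
noncomputable def okAlive (Q : List (List Nat × List Nat)) (w : List Nat) : Bool :=
  okL w && ([0, 3, 7, 8] : List Nat).all fun b =>
    Q.any fun e => Nat.beq (pw e.1) b && Nat.beq (pw e.2) (pimg w b)

/-- a case is correct -/
noncomputable def okCase (L : Nat) (mem : List (List Nat)) (m g : List Nat) (C : Case) : Bool :=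
  match C.steps with
  | [] => false
  | si :: l =>
    okChain m si.1.src && okChain m si.1.dst && Nat.blt (nat_lit 0) si.1.src.length &&
      Nat.blt (nat_lit 0) si.1.dst.length &&
      Nat.beq (pw (si.1.src.headD [])) (nat_lit 0) && Nat.beq (pw (si.1.dst.headD [])) (pw C.q) &&
      okSteps L mem m (pairsOf si.1) l &&
      cond C.dead (onlyImg L mem (allPairs C.steps) C.i C.b (nat_lit 1408))
        (okAlive (allPairs C.steps) C.w &&
          (!commOk C.w m || same C.w []) && (!commOk (g ++ C.w) m || same (g ++ C.w) []))

/-- every point is the image of a representative under a listed element -/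
noncomputable def okCover (m : List Nat) (Cs : List (List Nat)) (cases : List Case) (tab : Nat) :
    Bool :=
  okL m && (Cs.all fun c => okL c && commOk c m) &&
    allBelow (nat_lit 1408) fun p =>
      let t := rowGet tab p
      let k := Nat.shiftRight t (nat_lit 7)
      let i := Nat.land t (nat_lit 127)
      Nat.blt k cases.length && Nat.blt i Cs.length &&
        Nat.beq (pimg (Cs.getD i []) (pw ((cases.map Case.q).getD k []))) p

/-- substitution of words for the first and third letter and the inverse of the first -/
noncomputable def sub2 (a c : List Nat) : List Nat → List Nat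
  | [] => []
  | k :: w =>
    (bif Nat.beq k (nat_lit 0) then a else bif Nat.beq k (nat_lit 1) then ivw a else c) ++ sub2 a c w

/-- iteration of a word -/
noncomputable def rep (w : List Nat) : Nat → List Nat
  | 0 => []
  | o + 1 => w ++ rep w o

end CfsgLib.Spor.HNOut.KC
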