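import Cfsg.Agent.Lib.Spor.HN.KFaithful
import Cfsg.Agent.Lib.Spor.HN.ActFlat
import Cfsg.Agent.Lib.Spor.HNOut.KDefs

/-!
Soundness of the tests on orbit labels of pairs of points.
-/

set_option autoImplicit false

namespace CfsgLib.Spor.HNOut.KC

open CfsgLib.PresCert CfsgLib.DCE CfsgLib.Spor.HN

theorem g_six : GK.P.g = 6 := by decide +kernel

theorem n_pts : GK.P.n = 1408 := by decide +kernel

theorem base_eq : GK.base = [0, 3, 7, 8, 16] := by decide +kernel

/-- the first point -/
def pt0 : Fin GK.P.n := ⟨0, n_pts.symm ▸ by omega⟩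

theorem pt0_val : (pt0 : Nat) = 0 := rfl

theorem okL_lt {w : List Nat} (h : okL w = true) : ∀ x ∈ w, x < GK.P.g := by
  rw [g_six]
  simpa [okL] using h

theorem okL_append {u v : List Nat} (hu : okL u = true) (hv : okL v = true) :
    okL (u ++ v) = true := by
  simp only [okL, List.all_append, Bool.and_eq_true] at *
  exact ⟨hu, hv⟩

theorem okL_ivw {w : List Nat} (h : okL w = true) : okL (ivw w) = true := by
  have := permsK.ivw_lt (okL_lt h)
  rw [g_six] at this
  simpa [okL] using this

theorem pimg_act {w : List Nat} (hw : okL w = true) (i : Fin GK.P.n) :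
    pimg w i = (permsK.act (permsK.val w) i : Nat) :=
  permsK.fapp_act AD.flat_ok w (okL_lt hw) i

theorem pre_act {w : List Nat} (hw : okL w = true) (i : Fin GK.P.n) :
    pre w i = (permsK.act (permsK.val w)⁻¹ i : Nat) :=
  permsK.bapp_act AD.flat_ok w (okL_lt hw) i

theorem pw_act {w : List Nat} (hw : okL w = true) :
    pw w = (permsK.act (permsK.val w) pt0 : Nat) := pimg_act hw pt0

theorem same_spec {u v : List Nat} (hu : okL u = true) (hv : okL v = true) :
    same u v = true ↔ permsK.val u = permsK.val v := by
  constructor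
  · intro h
    rw [← mul_inv_eq_one]
    refine k_faithful.1 _ fun b hb => ?_
    have := Nat.eq_of_beq_eq_true (List.all_eq_true.1 h (b : Nat) hb)
    rw [pimg_act hu, pimg_act hv] at this
    rw [permsK.act_mul, show permsK.act (permsK.val u) b = permsK.act (permsK.val v) b from
      Fin.ext this, ← permsK.act_mul, mul_inv_cancel, permsK.act_one]
  · intro h
    simp only [same, List.all_eq_true, Nat.beq_eq]
    intro b hb
    have hb' : b < GK.P.n := base_lt_k b hb
    have e1 := pimg_act hu ⟨b, hb'⟩
    have e2 := pimg_act hv ⟨b, hb'⟩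
    rw [e1, e2, h]

theorem commOk_spec {u v : List Nat} (hu : okL u = true) (hv : okL v = true) :
    commOk u v = true ↔ permsK.val u * permsK.val v = permsK.val v * permsK.val u := by
  rw [commOk, same_spec (okL_append hu hv) (okL_append hv hu), permsK.val_append, permsK.val_append]

/-- an element fixing the first point is in the subgroup of its generators -/
theorem fixed0_mem {h : GrpK} (hh : permsK.act h pt0 = pt0) : h ∈ permsK.sub GK.V0ws := by
  refine k_edgeStab h fun i hi => ?_
  have h0 : GK.E0L0.base = 0 := by decide +kernel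
  obtain rfl : i = pt0 := Fin.ext (hi.trans h0)
  exact hh

variable {L : Nat} {mem : List (List Nat)}

/-- labels are invariant under the stabiliser of the first point -/
theorem lab_inv (hl : okLab L mem = true) {h : GrpK} (hh : permsK.act h pt0 = pt0)
    (r : Fin GK.P.n) : labOf L (permsK.act h r : Nat) = labOf L (r : Nat) := by
  let S : Subgroup GrpK :=
    { carrier := {h | ∀ r, labOf L (permsK.act h r : Nat) = labOf L (r : Nat)}
      one_mem' := fun r => by rw [permsK.act_one]
      mul_mem' := fun {a b} ha hb r => by rw [permsK.act_mul, hb, ha]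
      inv_mem' := fun {a} ha r => by
        rw [← ha (permsK.act a⁻¹ r), ← permsK.act_mul, inv_mul_cancel, permsK.act_one] }
  have hle : permsK.sub GK.V0ws ≤ S := by
    rw [Perms.sub, Subgroup.closure_le]
    rintro _ ⟨w, hw, rfl⟩ r
    have hlt := GK.e0_fix
    simp only [List.all_eq_true, Bool.and_eq_true, Nat.blt_eq] at hlt
    rw [← permsK.fapp_act AD.flat_ok w (hlt w hw).1 r]
    have := allBelow_spec hl (r : Nat) (r.2.trans_eq n_pts)
    simp only [Bool.and_eq_true, List.all_eq_true, Nat.beq_eq] at this
    exact this.1 w hw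
  exact hle (fixed0_mem hh) r

theorem mem_lab (hl : okLab L mem = true) (r : Fin GK.P.n) :
    (r : Nat) ∈ mem.getD (labOf L (r : Nat)) [] := by
  have := allBelow_spec hl (r : Nat) (r.2.trans_eq n_pts)
  simp only [Bool.and_eq_true, List.any_eq_true, Nat.beq_eq] at this
  obtain ⟨-, x, hx, e⟩ := this
  exact e ▸ hx

/-- `g` sends the point of `u` to the point of `v` -/
def Sends (g : GrpK) (u v : List Nat) : Prop :=
  okL u = true ∧ okL v = true ∧ ∀ i : Fin GK.P.n, (i : Nat) = pw u → (permsK.act g i : Nat) = pw v

/-- labels of pairs are invariant -/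
theorem lab_sends (hl : okLab L mem = true) {g : GrpK} {u v : List Nat} (h : Sends g u v)
    (r : Fin GK.P.n) : labW L v (permsK.act g r : Nat) = labW L u (r : Nat) := by
  obtain ⟨hu, hv, hs⟩ := h
  have e : permsK.act g (permsK.act (permsK.val u) pt0) = permsK.act (permsK.val v) pt0 := by
    refine Fin.ext ?_
    rw [hs _ (pw_act hu).symm, pw_act hv]
  have h0 : permsK.act (permsK.val u * g * (permsK.val v)⁻¹) pt0 = pt0 := by
    rw [permsK.act_mul, permsK.act_mul, e, ← permsK.act_mul, mul_inv_cancel, permsK.act_one]
  have hh := lab_inv hl h0 (permsK.act (permsK.val u)⁻¹ r)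
  rw [← permsK.act_mul, show (permsK.val u)⁻¹ * (permsK.val u * g * (permsK.val v)⁻¹) =
    g * (permsK.val v)⁻¹ by group, permsK.act_mul] at hh
  unfold labW
  rw [pre_act hv, pre_act hu]
  exact hh

theorem onlyImg_spec (hl : okLab L mem = true) {g : GrpK} {Q : List (List Nat × List Nat)}
    (hQ : ∀ e ∈ Q, Sends g e.1 e.2) {i b keep : Nat} (h : onlyImg L mem Q i b keep = true) :
    ∀ c : Fin GK.P.n, (c : Nat) = b → (permsK.act g c : Nat) = keep := by
  intro c hc
  simp only [onlyImg, Bool.and_eq_true, Nat.blt_eq, List.all_eq_true, Bool.or_eq_true,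
    List.any_eq_true, Bool.not_eq_true', Nat.beq_eq] at h
  obtain ⟨⟨hi, -⟩, hall⟩ := h
  rw [show Q.getD i ([], []) = Q[i] from List.getD_eq_getElem _ _ hi] at hall
  obtain ⟨hu, hv, hs⟩ := hQ _ (List.getElem_mem hi)
  have hlab := lab_sends hl ⟨hu, hv, hs⟩ c
  have hm : (permsK.act (permsK.val Q[i].2)⁻¹ (permsK.act g c) : Nat) ∈
      mem.getD (labW L Q[i].1 b) [] := by
    rw [← hc, ← hlab]
    unfold labW
    rw [pre_act hv]
    exact mem_lab hl _
  have hh := hall _ hm
  rw [pimg_act hv, ← permsK.act_mul, inv_mul_cancel, permsK.act_one] at hh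
  rcases hh with hh | ⟨e, he, hne⟩
  · exact hh
  · have := lab_sends hl (hQ e he) c
    rw [hc] at this
    rw [this] at hne
    simp at hne

theorem chain_head {m : List Nat} : ∀ {S : List (List Nat)}, okChain m S = true →
    okL (S.headD []) = true
  | [], _ => rfl
  | [w], h => h
  | w :: v :: l, h => by
    simp only [okChain, Bool.and_eq_true] at h
    exact h.1.1

theorem chain_step {m w v : List Nat} {l : List (List Nat)} (h : okChain m (w :: v :: l) = true) :
    pimg m (pw w) = pw v ∧ okChain m (v :: l) = true := by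
  simp only [okChain, Bool.and_eq_true, Nat.beq_eq] at h
  exact ⟨h.1.2, h.2⟩

theorem chain_sends {g : GrpK} {m : List Nat} (hm : okL m = true)
    (hg : g * permsK.val m = permsK.val m * g) : ∀ S T : List (List Nat),
    okChain m S = true → okChain m T = true →
      (∀ i : Fin GK.P.n, (i : Nat) = pw (S.headD []) →
        (permsK.act g i : Nat) = pw (T.headD [])) →
      ∀ e ∈ S.zip T, Sends g e.1 e.2 := by
  intro S
  induction S with
  | nil => intro T _ _ _ e he; simp at he
  | cons w S ih =>
    intro T hS hT h0 e he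
    cases T with
    | nil => simp at he
    | cons v T =>
      have hw := chain_head hS
      have hv := chain_head hT
      simp only [List.headD_cons] at hw hv h0
      rw [List.zip_cons_cons, List.mem_cons] at he
      rcases he with rfl | he
      · exact ⟨hw, hv, h0⟩
      · cases S with
        | nil => simp at he
        | cons w' S =>
          cases T with
          | nil => simp at he
          | cons v' T =>
            obtain ⟨s1, s2⟩ := chain_step hS
            obtain ⟨t1, t2⟩ := chain_step hT
            refine ih (v' :: T) s2 t2 (fun i hi => ?_) e he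
            simp only [List.headD_cons] at hi ⊢
            have hc := pimg_act hm (permsK.act (permsK.val w) pt0)
            rw [← pw_act hw, s1] at hc
            obtain rfl : i = permsK.act (permsK.val m) (permsK.act (permsK.val w) pt0) :=
              Fin.ext (hi.trans hc)
            rw [← permsK.act_mul (permsK.val m) g, ← hg, permsK.act_mul, ← pimg_act hm,
              h0 _ (pw_act hw).symm, t1]

theorem steps_sends (hl : okLab L mem = true) {g : GrpK} {m : List Nat} (hm : okL m = true)
    (hg : g * permsK.val m = permsK.val m * g) : ∀ (l : List (Step × Nat))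
    (Q : List (List Nat × List Nat)), okSteps L mem m Q l = true →
      (∀ e ∈ Q, Sends g e.1 e.2) → ∀ e ∈ Q ++ allPairs l, Sends g e.1 e.2 := by
  intro l
  induction l with
  | nil => intro Q _ hQ e he; simp [allPairs] at he; exact hQ e he
  | cons si l ih =>
    intro Q h hQ e he
    simp only [okSteps, Bool.and_eq_true] at h
    obtain ⟨⟨⟨hs, ht⟩, ho⟩, hrest⟩ := h
    have hnew := chain_sends hm hg _ _ hs ht (onlyImg_spec hl hQ ho)
    refine ih _ hrest (fun e he => ?_) e ?_
    · rcases List.mem_append.1 he with he | he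
      · exact hQ e he
      · exact hnew e he
    · simpa [allPairs, List.append_assoc] using he

theorem case_q {m g4 : List Nat} {C : Case} (h : okCase L mem m g4 C = true) :
    pw C.q < GK.P.n := by
  obtain ⟨q, steps, dead, b, i, w⟩ := C
  cases steps with
  | nil => simp [okCase] at h
  | cons si l =>
    simp only [okCase, Bool.and_eq_true, Nat.beq_eq] at h
    obtain ⟨⟨⟨⟨⟨⟨⟨-, ht⟩, -⟩, -⟩, -⟩, hq⟩, -⟩, -⟩ := h
    show pw q < _
    rw [← hq, pw_act (chain_head ht)]
    exact Fin.isLt _

/-- An element commuting with `m` and sending the first point to a representative is one, given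
the elements fixing four base points. -/
theorem case_spec (hl : okLab L mem = true) {g : GrpK} {m g4 : List Nat} (hm : okL m = true)
    (hg : g * permsK.val m = permsK.val m * g) (hg4 : okL g4 = true)
    (h2 : ∀ h : GrpK, (∀ i : Fin GK.P.n, (i : Nat) ∈ [0, 3, 7, 8] → permsK.act h i = i) →
      h = 1 ∨ h = permsK.val g4)
    {C : Case} (h : okCase L mem m g4 C = true)
    (h0 : (permsK.act g pt0 : Nat) = pw C.q) : g = 1 := by
  obtain ⟨q, steps, dead, b, i, w⟩ := C
  cases steps with
  | nil => simp [okCase] at h
  | cons si l =>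
    simp only [okCase, Bool.and_eq_true, Nat.beq_eq] at h
    obtain ⟨⟨⟨⟨⟨⟨⟨hs, ht⟩, -⟩, -⟩, hsrc⟩, hdst⟩, hsteps⟩, hc⟩ := h
    have hfirst : ∀ e ∈ pairsOf si.1, Sends g e.1 e.2 := by
      refine chain_sends hm hg _ _ hs ht fun j hj => ?_
      rw [hsrc] at hj
      obtain rfl : j = pt0 := Fin.ext hj
      rw [hdst]
      exact h0
    have hall : ∀ e ∈ allPairs (si :: l), Sends g e.1 e.2 := fun e he =>
      steps_sends hl hm hg l _ hsteps hfirst e (by simpa [allPairs] using he)
    cases dead with
    | true =>
      simp only [cond_true] at hc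
      have hb : b < GK.P.n := by
        rw [n_pts]
        simp only [onlyImg, Bool.and_eq_true, Nat.blt_eq] at hc
        exact hc.1.2
      have := onlyImg_spec hl hall hc ⟨b, hb⟩ rfl
      exact absurd ((permsK.act g ⟨b, hb⟩).2) (by rw [this, n_pts]; decide)
    | false =>
      simp only [cond_false, Bool.and_eq_true, okAlive, List.all_eq_true, List.any_eq_true,
        Nat.beq_eq] at hc
      obtain ⟨⟨⟨hw, hb⟩, hc1⟩, hc2⟩ := hc
      have hfix : ∀ j : Fin GK.P.n, (j : Nat) ∈ [0, 3, 7, 8] →
          permsK.act (g * (permsK.val w)⁻¹) j = j := by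
        intro j hj
        obtain ⟨e, he, e1, e2⟩ := hb _ hj
        obtain ⟨-, -, hs'⟩ := hall e he
        have := hs' j e1.symm
        rw [e2, pimg_act hw] at this
        rw [permsK.act_mul, Fin.ext this, ← permsK.act_mul, mul_inv_cancel, permsK.act_one]
      have fin : ∀ v : List Nat, okL v = true → (!commOk v m || same v []) = true →
          g = permsK.val v → g = 1 := by
        intro v hv hh e
        subst e
        rw [(commOk_spec hv hm).2 hg] at hh
        simp only [Bool.not_true, Bool.false_or] at hh
        rw [(same_spec hv rfl).1 hh]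
        simp [Perms.val, wv]
      rcases h2 _ hfix with e | e
      · exact fin w hw hc1 (mul_inv_eq_one.1 e)
      · refine fin (g4 ++ w) (okL_append hg4 hw) hc2 ?_
        rw [permsK.val_append, ← e, inv_mul_cancel_right]

theorem cover_lt {m : List Nat} {Cs : List (List Nat)} {cases : List Case} {tab : Nat}
    (h : okCover m Cs cases tab = true) :
    okL m = true ∧ ∀ c ∈ Cs, okL c = true ∧
      permsK.val c * permsK.val m = permsK.val m * permsK.val c := by
  simp only [okCover, Bool.and_eq_true, List.all_eq_true] at h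
  obtain ⟨⟨hm, hc⟩, -⟩ := h
  exact ⟨hm, fun c hc' => ⟨(hc c hc').1, (commOk_spec (hc c hc').1 hm).1 (hc c hc').2⟩⟩

/-- the elements commuting with `m` are the listed ones -/
theorem cent_spec (hl : okLab L mem = true) {m g4 : List Nat} (hg4 : okL g4 = true)
    (h2 : ∀ h : GrpK, (∀ i : Fin GK.P.n, (i : Nat) ∈ [0, 3, 7, 8] → permsK.act h i = i) →
      h = 1 ∨ h = permsK.val g4)
    {Cs : List (List Nat)} {cases : List Case} {tab : Nat}
    (hcov : okCover m Cs cases tab = true)
    (hcases : cases.all (okCase L mem m g4) = true)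
    (g : GrpK) (hg : g * permsK.val m = permsK.val m * g) :
    ∃ c ∈ Cs, g = permsK.val c := by
  obtain ⟨hm, hC⟩ := cover_lt hcov
  simp only [okCover, Bool.and_eq_true] at hcov
  have hp := allBelow_spec hcov.2 (permsK.act g pt0 : Nat) ((Fin.isLt _).trans_eq n_pts)
  simp only [Bool.and_eq_true, Nat.blt_eq, Nat.beq_eq] at hp
  generalize rowGet tab (permsK.act g pt0 : Nat) = t at hp
  generalize Nat.shiftRight t 7 = k at hp
  generalize Nat.land t 127 = i at hp
  obtain ⟨⟨hk, hi⟩, he⟩ := hp
  rw [List.getD_eq_getElem?_getD, List.getElem?_eq_getElem hi, Option.getD_some,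
    List.getD_eq_getElem?_getD, List.getElem?_map, List.getElem?_eq_getElem hk,
    Option.map_some, Option.getD_some] at he
  have hck := List.all_eq_true.1 hcases _ (List.getElem_mem hk)
  obtain ⟨hc, hcm⟩ := hC _ (List.getElem_mem hi)
  have hq := case_q hck
  have e1 := pimg_act hc ⟨pw cases[k].q, hq⟩
  rw [he] at e1
  refine ⟨_, List.getElem_mem hi, mul_inv_eq_one.1 ?_⟩
  refine case_spec hl hm ?_ hg4 h2 hck ?_
  · have hcm' : Commute (permsK.val Cs[i])⁻¹ (permsK.val m) := Commute.inv_left hcm
    exact (Commute.mul_left hg hcm').eq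
  · rw [permsK.act_mul, Fin.ext e1, ← permsK.act_mul, mul_inv_cancel, permsK.act_one]

end CfsgLib.Spor.HNOut.KC
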