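import Cfsg.Prelude.Def_Spor_HN
import Cfsg.Agent.Lib.Spor.HNOut.Abstract

/-!
The outer automorphism of the presented Harada-Norton group.
-/

set_option autoImplicit false

namespace CfsgLib.Spor.HNOut

open Cfsg Cfsg.Spor

/-- the quotient map onto the presented group -/
abbrev q : FreeGroup HN.Gen →* Spor.HN := PresentedGroup.mk _
/-- the generator x -/
abbrev gx : Spor.HN := q HN.x
/-- the generator y -/
abbrev gy : Spor.HN := q HN.y
/-- the generator z -/
abbrev gz : Spor.HN := q HN.z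
/-- the generator t -/
abbrev gt : Spor.HN := q HN.t

theorem rel {r : FreeGroup HN.Gen} (h : r ∈ HN.extra) : q r = 1 :=
  PresentedGroup.one_of_mem (Or.inr h)

theorem rel_t5 : gt ^ 5 = 1 := by
  rw [← map_pow]; exact rel (by simp [HN.extra])

theorem rel_z2 : gz * gz = 1 := by
  rw [← pow_two, ← map_pow]; exact rel (by simp [HN.extra])

theorem rel_zx : gz * gx * (gz * gx) = 1 := by
  rw [← map_mul, ← pow_two, ← map_pow]; exact rel (by simp [HN.extra])

theorem rel_tx : gx⁻¹ * gt * gx * gt ^ 2 = 1 := by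
  simp only [← map_inv, ← map_mul, ← map_pow]; exact rel (by simp [HN.extra])

theorem rel_ty : gt * gy = gy * gt := by
  have h : q (HN.t⁻¹ * HN.y⁻¹ * HN.t * HN.y) = 1 := rel (by simp [HN.extra])
  simp only [map_mul, map_inv] at h
  calc gt * gy = gy * gt * (gt⁻¹ * gy⁻¹ * gt * gy) := by group
    _ = gy * gt := by rw [h, mul_one]

theorem rel_xy : gx ^ 2 * gy * gx ^ 2 * gy⁻¹ = 1 := by
  simp only [← map_inv, ← map_mul, ← map_pow]; exact rel (by simp [HN.extra])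

theorem rel_zt : (gz * gt) ^ 3 = 1 := by
  simp only [← map_mul, ← map_pow]; exact rel (by simp [HN.extra])

theorem rel_tx3 : gx⁻¹ * gt * gx = gt ^ 3 := by
  calc gx⁻¹ * gt * gx = gx⁻¹ * gt * gx * gt ^ 2 * (gt ^ 5)⁻¹ * gt ^ 3 := by group
    _ = gt ^ 3 := by rw [rel_tx, rel_t5, inv_one, one_mul, one_mul]

theorem rel_closure : Subgroup.closure ({gx, gy, gz, gt} : Set Spor.HN) = ⊤ := by
  refine top_le_iff.1 ((PresentedGroup.closure_range_of _).ge.trans ?_)
  rw [Subgroup.closure_le]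
  rintro _ ⟨i, rfl⟩
  cases i <;> exact Subgroup.subset_closure (by simp [gx, gy, gz, gt, q]; first
    | exact Or.inl rfl
    | exact Or.inr (Or.inl rfl)
    | exact Or.inr (Or.inr (Or.inl rfl))
    | exact Or.inr (Or.inr (Or.inr rfl)))

theorem comm_xy (hx4 : gx ^ 4 = 1) : gx ^ 2 * gy = gy * gx ^ 2 := by
  have h : gx ^ 2 * gy * gx ^ 2 = gy := mul_inv_eq_one.1 rel_xy
  calc gx ^ 2 * gy = gx ^ 2 * gy * (gx ^ 4) := by rw [hx4, mul_one]
    _ = gx ^ 2 * gy * gx ^ 2 * gx ^ 2 := by group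
    _ = gy * gx ^ 2 := by rw [h]

theorem conj_x_z (hx4 : gx ^ 4 = 1) : gx⁻¹ * gz * gx = gx ^ 2 * gz := by
  have h1 : gz * gx = gx⁻¹ * gz := by
    calc gz * gx = gx⁻¹ * gz⁻¹ * (gz * gx * (gz * gx)) := by group
      _ = gx⁻¹ * gz := by rw [rel_zx, mul_one, inv_eq_of_mul_eq_one_left rel_z2]
  have h2 : gx⁻¹ * gx⁻¹ = gx ^ 2 := by
    rw [← mul_inv_rev, inv_eq_iff_mul_eq_one]
    calc gx * gx * gx ^ 2 = gx ^ 4 := by group
      _ = 1 := hx4
  rw [mul_assoc, h1, ← mul_assoc, h2]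

/-- the images of the generators under the outer automorphism -/
def thetaGen : HN.Gen → Spor.HN
  | .x => gx
  | .y => gy
  | .z => gz * gx ^ 2
  | .t => gt ^ 3

theorem thetaGen_rel (hx4 : gx ^ 4 = 1) (hzx : gx ^ 2 * gz = gz * gx ^ 2) :
    ∀ r ∈ coxRelators HN.edges ∪ {r | r ∈ HN.extra}, FreeGroup.lift thetaGen r = 1 := by
  have hy : Commute (gx ^ 2) gy := comm_xy hx4
  have hz : Commute (gx ^ 2) gz := hzx
  have h44 : gx ^ 2 * gx ^ 2 = 1 := by rw [← pow_add]; exact hx4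
  rintro r (⟨u, hu, -⟩ | hr)
  · simp [coxNodes, HN.edges] at hu
  simp only [Set.mem_setOf_eq, HN.extra, List.mem_cons, List.not_mem_nil, or_false] at hr
  have old : ∀ w : FreeGroup HN.Gen, w ∈ HN.extra → q w = 1 := fun w hw => rel hw
  rcases hr with rfl | rfl | rfl | rfl | rfl | rfl | rfl | rfl | rfl | rfl | rfl | rfl | rfl | rfl
  iterate 6
    · simp only [map_mul, map_pow, map_inv, FreeGroup.lift_apply_of, thetaGen]
      simp only [← map_inv, ← map_mul, ← map_pow]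
      exact old _ (by simp [HN.extra])
  · -- z²
    simp only [map_pow, FreeGroup.lift_apply_of, thetaGen]
    rw [pow_two (gz * gx ^ 2), hz.mul_mul_mul_comm, rel_z2, h44, one_mul]
  · -- (zx)²
    simp only [map_pow, map_mul, FreeGroup.lift_apply_of, thetaGen]
    have hc : Commute (gx ^ 2) (gz * gx) := hz.mul_right ((Commute.refl gx).pow_left 2)
    rw [mul_assoc, ((Commute.refl gx).pow_left 2).eq, ← mul_assoc, pow_two (gz * gx * gx ^ 2),
      hc.mul_mul_mul_comm, rel_zx, h44, one_mul]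
  · -- [z, w] x⁻²
    simp only [map_mul, map_pow, map_inv, FreeGroup.lift_apply_of, thetaGen]
    have h : q ((HN.z⁻¹ * (HN.y * HN.x * HN.y * HN.x * (HN.y ^ 2) * HN.x * (HN.y⁻¹))⁻¹ * HN.z *
        (HN.y * HN.x * HN.y * HN.x * (HN.y ^ 2) * HN.x * (HN.y⁻¹))) * ((HN.x ^ 2)⁻¹)) = 1 :=
      rel (by simp [HN.extra])
    simp only [map_mul, map_pow, map_inv] at h
    have hx : Commute (gx ^ 2) gx := (Commute.refl gx).pow_left 2
    set w := gy * gx * gy * gx * gy ^ 2 * gx * gy⁻¹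
    have hw : Commute (gx ^ 2) w :=
      ((((((hy.mul_right hx).mul_right hy).mul_right hx).mul_right (hy.pow_right 2)).mul_right
        hx).mul_right hy.inv_right)
    refine Eq.trans ?_ h
    calc (gz * gx ^ 2)⁻¹ * w⁻¹ * (gz * gx ^ 2) * w * (gx ^ 2)⁻¹
        = (gx ^ 2)⁻¹ * (gz⁻¹ * w⁻¹ * gz * (gx ^ 2 * w)) * (gx ^ 2)⁻¹ := by
          simp only [mul_inv_rev, mul_assoc]
      _ = (gx ^ 2)⁻¹ * ((gz⁻¹ * w⁻¹ * gz * w) * gx ^ 2) * (gx ^ 2)⁻¹ := by
          rw [hw.eq]; simp only [mul_assoc]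
      _ = (gx ^ 2)⁻¹ * (gz⁻¹ * w⁻¹ * gz * w) := by
          simp only [mul_assoc, mul_inv_cancel, mul_one]
      _ = gz⁻¹ * w⁻¹ * gz * w * (gx ^ 2)⁻¹ :=
          (((hz.inv_right.mul_right hw.inv_right).mul_right hz).mul_right hw).inv_left.eq
  · -- z (z^v x)^3
    simp only [map_mul, map_pow, map_inv, FreeGroup.lift_apply_of, thetaGen]
    have h : q (HN.z * (((((HN.y ^ 3) * HN.x * HN.y * HN.x * HN.y)⁻¹ * HN.z *
        ((HN.y ^ 3) * HN.x * HN.y * HN.x * HN.y)) * HN.x) ^ 3)) = 1 := rel (by simp [HN.extra])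
    simp only [map_mul, map_pow, map_inv] at h
    have hx : Commute (gx ^ 2) gx := (Commute.refl gx).pow_left 2
    set v := gy ^ 3 * gx * gy * gx * gy
    have hv : Commute (gx ^ 2) v :=
      ((((hy.pow_right 3).mul_right hx).mul_right hy).mul_right hx).mul_right hy
    have hu : v⁻¹ * (gz * gx ^ 2) * v * gx = v⁻¹ * gz * v * gx * gx ^ 2 := by
      calc v⁻¹ * (gz * gx ^ 2) * v * gx = v⁻¹ * gz * (gx ^ 2 * (v * gx)) := by
            simp only [mul_assoc]
        _ = v⁻¹ * gz * v * gx * gx ^ 2 := by rw [(hv.mul_right hx).eq]; simp only [mul_assoc]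
    have hc : Commute (gx ^ 2) (v⁻¹ * gz * v * gx) :=
      ((hv.inv_right.mul_right hz).mul_right hv).mul_right hx
    have h4 : gx ^ 2 * (gx ^ 2) ^ 3 = 1 := by
      rw [← pow_succ', show (gx ^ 2) ^ (3 + 1) = (gx ^ 4) ^ 2 by rw [← pow_mul, ← pow_mul],
        hx4, one_pow]
    refine Eq.trans ?_ h
    rw [hu, hc.symm.mul_pow]
    calc gz * gx ^ 2 * ((v⁻¹ * gz * v * gx) ^ 3 * (gx ^ 2) ^ 3)
        = gz * ((v⁻¹ * gz * v * gx) ^ 3 * (gx ^ 2 * (gx ^ 2) ^ 3)) := by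
          rw [mul_assoc, ← mul_assoc (gx ^ 2), (hc.pow_right 3).eq]; simp only [mul_assoc]
      _ = _ := by rw [h4, mul_one]
  · -- t⁵
    simp only [map_pow, FreeGroup.lift_apply_of, thetaGen]
    rw [← pow_mul, mul_comm, pow_mul, rel_t5, one_pow]
  · -- t^x t²
    simp only [map_mul, map_pow, map_inv, FreeGroup.lift_apply_of, thetaGen]
    rw [show gx⁻¹ * gt ^ 3 * gx = (gx⁻¹ * gt * gx) ^ 3 by
      have := conj_pow (a := gx⁻¹) (b := gt) (i := 3); rw [inv_inv] at this; exact this.symm,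
      rel_tx3, ← pow_mul, ← pow_mul, ← pow_add, show 3 * 3 + 3 * 2 = 5 * 3 by rfl, pow_mul,
      rel_t5, one_pow]
  · -- [t, y]
    simp only [map_mul, map_inv, FreeGroup.lift_apply_of, thetaGen]
    rw [mul_assoc _ (gt ^ 3) gy, ((show Commute gt gy from rel_ty).pow_left 3).eq]
    group
  · -- (zt)³
    simp only [map_mul, map_pow, FreeGroup.lift_apply_of, thetaGen]
    have h1 : gz * gx ^ 2 * gt ^ 3 = gx⁻¹ * (gz * gt) * gx⁻¹⁻¹ := by
      rw [← hz.eq, ← conj_x_z hx4, ← rel_tx3]; group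
    rw [h1, conj_pow, rel_zt]; group

/-- the endomorphism behind the outer automorphism -/
noncomputable def thetaHom (hx4 : gx ^ 4 = 1) (hzx : gx ^ 2 * gz = gz * gx ^ 2) :
    Spor.HN →* Spor.HN :=
  PresentedGroup.toGroup (thetaGen_rel hx4 hzx)

theorem exists_theta [Finite Spor.HN] (hx4 : gx ^ 4 = 1)
    (hzx : gx ^ 2 * gz = gz * gx ^ 2) :
    ∃ θ : MulAut Spor.HN, θ gx = gx ∧ θ gy = gy ∧ θ gz = gz * gx ^ 2 ∧ θ gt = gt ^ 3 := by
  set f := thetaHom hx4 hzx
  have fx : f gx = gx := PresentedGroup.toGroup.of _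
  have fy : f gy = gy := PresentedGroup.toGroup.of _
  have fz : f gz = gz * gx ^ 2 := PresentedGroup.toGroup.of _
  have ft : f gt = gt ^ 3 := PresentedGroup.toGroup.of _
  have hs : Function.Surjective f := by
    rw [← MonoidHom.range_eq_top, ← top_le_iff, ← rel_closure, Subgroup.closure_le]
    rintro g (rfl | rfl | rfl | rfl)
    · exact ⟨gx, fx⟩
    · exact ⟨gy, fy⟩
    · exact ⟨gz * gx ^ 2, by
        rw [map_mul, map_pow, fz, fx, mul_assoc, ← pow_add, hx4, mul_one]⟩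
    · exact ⟨gt ^ 2, by
        rw [map_pow, ft, ← pow_mul, show 3 * 2 = 5 + 1 by rfl, pow_add, rel_t5, one_mul, pow_one]⟩
  exact ⟨MulEquiv.ofBijective f ⟨Finite.injective_iff_surjective.2 hs, hs⟩, fx, fy, fz, ft⟩

end CfsgLib.Spor.HNOut
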