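import Cfsg.Agent.Lib.Spor.HNOut.GFacts
import Cfsg.Agent.Lib.Spor.HNOut.Theta

/-!
The outer automorphism group of the presented Harada-Norton group has order two.
-/

set_option autoImplicit false

namespace CfsgLib.Spor.HNOut

open Cfsg CfsgLib.Spor.HN CfsgLib.PresCert CfsgLib.DCE

theorem psi_x : GF.X = gx := (psiK_gen 0).trans rfl

theorem psi_y : GF.Y = gy := (psiK_gen 1).trans rfl

theorem psi_z : GF.Z = gz := (psiK_gen 2).trans rfl

theorem hn_hyp : Hyp GF.X GF.Y GF.Z GF.T (psiK KC.ka) := by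
  have := GF.ghn_finite
  obtain ⟨-, -, -, hord, -, -, hx4, hx2, hy, hz⟩ := KC.words_spec
  have hcent := KC.sq_central KC.ka
  refine
    { gen := ?_, hx4 := ?_, hx2 := ?_, hyx := ?_, hzx := ?_, ht5 := GF.T5, ht1 := GF.T_ne,
      htx := GF.TX, hty := GF.TY, ha := ?_, sq := ?_, hCa := ?_, hax := ?_, hU := GF.hU_spec,
      h2 := GF.h2_ne, h1 := GF.h1_ne, hK := GF.hK_spec, hθ := GF.hθ_spec }
  · rw [psi_x, psi_y, psi_z, show GF.T = gt from rfl]
    exact rel_closure
  · rw [← map_pow, hx4, map_one]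
  · rw [← map_pow]
    exact fun e => hx2 (psiK_injective (e.trans psiK.map_one.symm))
  · rw [← map_pow, ← map_mul, ← map_mul, hy]
  · rw [← map_pow, ← map_mul, ← map_mul, hz]
  · rw [orderOf_injective psiK psiK_injective, hord]
  · rw [ghn_card]; norm_num
  · intro g hg
    obtain ⟨k, rfl⟩ := GF.centA_range g hg
    have hk : k * KC.ka = KC.ka * k := psiK_injective (by rw [map_mul, map_mul]; exact hg)
    rcases KC.centA_form k hk with h | h
    · obtain ⟨n, hn⟩ := Subgroup.mem_zpowers_iff.1 h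
      exact Or.inl (Subgroup.mem_zpowers_iff.2 ⟨n, by rw [← map_zpow, hn]⟩)
    · obtain ⟨n, hn⟩ := Subgroup.mem_zpowers_iff.1 h
      exact Or.inr (Subgroup.mem_zpowers_iff.2 ⟨n, by rw [← map_zpow, hn, map_mul, map_pow]⟩)
  · rw [← map_pow, ← map_mul, ← map_mul, hcent]

/-- the outer automorphism group has order two -/
theorem hn_natCard_out : Nat.card (Out Spor.HN) = 2 := by
  have := GF.ghn_finite
  have h := hn_hyp
  obtain ⟨θ, θx, θy, θz, θt⟩ := exists_theta (by rw [← psi_x]; exact h.hx4)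
    (by rw [← psi_x, ← psi_z]; exact h.hzx)
  rw [← psi_x, ← psi_y, ← psi_z] at *
  exact h.natCard_out (by rw [psi_z]; exact rel_zt) θ θx θy θz θt

end CfsgLib.Spor.HNOut
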